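import Groth.Agent.FlatMor.FlatAtBC
import Groth.Agent.FlatDVR.Test
import Mathlib.RingTheory.Ideal.Maximal
import Mathlib.RingTheory.Localization.BaseChange
import Mathlib.RingTheory.IsTensorProduct

/-!
Flatness of a base change localised at a multiplicative set, tested at primes.
-/

set_option autoImplicit false
set_option linter.style.haveILetI false
set_option maxHeartbeats 800000

universe u

open TensorProduct

namespace Groth.Agent.S2Crit6

/-- A localised module is flat modulo `I` when the module is flat at enough primes. -/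
theorem flat_quot_localized {V W C : Type u} [CommRing V] [CommRing W] [CommRing C] [Algebra V W] [Algebra C W]
    (I : Ideal V) (T : Submonoid C) {Y Z : Type u} [AddCommGroup Y] [Module W Y] [Module V Y]
    [IsScalarTower V W Y] [Module C Y] [IsScalarTower C W Y] [AddCommGroup Z] [Module W Z] [Module V Z]
    [IsScalarTower V W Z] [Module C Z] [IsScalarTower C W Z] (l : Y →ₗ[W] Z)
    [IsLocalizedModule T (l.restrictScalars C)]
    (h : ∀ Q : Ideal W, Q.IsPrime → I.map (algebraMap V W) ≤ Q → (∀ t ∈ T, algebraMap C W t ∉ Q) →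
      ∃ q : PrimeSpectrum W, Q ≤ q.asIdeal ∧ FlatCA.FlatAt V q.asIdeal Y) :
    Module.Flat (V ⧸ I) ((V ⧸ I) ⊗[V] Z) := by
  haveI : IsLocalizedModule (Algebra.algebraMapSubmonoid W T) l := IsLocalizedModule.of_restrictScalars T l
  refine FlatDVR.flat_baseChange_of_injective_test (V ⧸ I) Z fun U U' _ _ _ _ _ _ _ _ a ha => ?_
  rw [← LinearMap.lTensor_inj_iff_rTensor_inj, injective_iff_map_eq_zero]
  intro z hz
  let T' := Algebra.algebraMapSubmonoid W T
  let L := AlgebraTensorModule.rTensor V U l
  let L' := AlgebraTensorModule.rTensor V U' l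
  obtain ⟨⟨y, s⟩, hys⟩ := IsLocalizedModule.surj T' L z
  have hc : ∀ y, (a.restrictScalars V).lTensor Z (L y) = L' ((a.restrictScalars V).lTensor Y y) := by
    intro y
    induction y using TensorProduct.induction_on with
    | zero => simp only [map_zero]
    | tmul w u => rfl
    | add x y hx hy => simp only [map_add, hx, hy]
  have h0 : L' ((a.restrictScalars V).lTensor Y y) = 0 := by
    rw [← hc, ← hys]
    show AlgebraTensorModule.lTensor W Z (a.restrictScalars V) ((s : W) • z) = 0
    rw [map_smul, show AlgebraTensorModule.lTensor W Z (a.restrictScalars V) z = 0 from hz, smul_zero]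
  obtain ⟨s', hs'⟩ := IsLocalizedModule.exists_of_eq (S := T') (h0.trans (map_zero L').symm)
  rw [smul_zero, Submonoid.smul_def] at hs'
  let y' := (s' : W) • y
  have hy' : (a.restrictScalars V).lTensor Y y' = 0 := by
    show AlgebraTensorModule.lTensor W Y (a.restrictScalars V) y' = 0
    rw [map_smul]
    exact hs'
  obtain ⟨t, ht, hty⟩ : ∃ t ∈ T', t • y' = 0 := by
    by_contra hcon
    push Not at hcon
    let K : Ideal W := LinearMap.ker (LinearMap.toSpanSingleton W (Y ⊗[V] U) y')
    obtain ⟨Q, hQ, hKQ, hdis⟩ := Ideal.exists_le_prime_disjoint (I := K) T'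
      (Set.disjoint_left.mpr fun t htK htT => hcon t htT (LinearMap.mem_ker.mp htK))
    have hIQ : I.map (algebraMap V W) ≤ Q := Ideal.map_le_iff_le_comap.mpr fun i hi => hKQ (by
      rw [LinearMap.mem_ker, LinearMap.toSpanSingleton_apply, algebraMap_smul]
      induction y' using TensorProduct.induction_on with
      | zero => simp
      | tmul w u =>
        rw [← TensorProduct.tmul_smul, ← algebraMap_smul (V ⧸ I) i u, Ideal.Quotient.algebraMap_eq,
          Ideal.Quotient.eq_zero_iff_mem.mpr hi, zero_smul, TensorProduct.tmul_zero]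
      | add x y hx hy => rw [smul_add, hx, hy, add_zero])
    obtain ⟨q, hQq, hq⟩ := h Q hQ hIQ fun t ht htQ =>
      Set.disjoint_left.mp hdis htQ (Algebra.mem_algebraMapSubmonoid_of_mem ⟨t, ht⟩)
    haveI : Module.Flat V (LocalizedModule q.asIdeal.primeCompl Y) := hq
    let m := LocalizedModule.mkLinearMap q.asIdeal.primeCompl Y
    have h1 : AlgebraTensorModule.rTensor V U m y' = 0 := by
      apply Module.Flat.lTensor_preserves_injective_linearMap
        (M := LocalizedModule q.asIdeal.primeCompl Y) (a.restrictScalars V) ha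
      rw [map_zero]
      have hc' : ∀ y, (a.restrictScalars V).lTensor (LocalizedModule q.asIdeal.primeCompl Y)
          (AlgebraTensorModule.rTensor V U m y) =
          AlgebraTensorModule.rTensor V U' m ((a.restrictScalars V).lTensor Y y) := by
        intro y
        induction y using TensorProduct.induction_on with
        | zero => simp only [map_zero]
        | tmul w u => rfl
        | add x y hx hy => simp only [map_add, hx, hy]
      rw [hc', hy', map_zero]
    obtain ⟨r, hr⟩ := IsLocalizedModule.exists_of_eq (S := q.asIdeal.primeCompl)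
      (h1.trans (map_zero (AlgebraTensorModule.rTensor V U m)).symm)
    rw [smul_zero] at hr
    exact r.2 (hQq (hKQ (LinearMap.mem_ker.mpr hr)))
  have h2 : ((t * s' * s : W)) • z = 0 := by
    rw [mul_smul, show (s : W) • z = L y from hys, ← map_smul, mul_smul]
    exact (congrArg L hty).trans (map_zero L)
  have hunit : IsUnit (algebraMap W (Module.End W (Z ⊗[V] U)) (t * s' * s)) :=
    IsLocalizedModule.map_units L (⟨_, mul_mem (mul_mem ht s'.2) s.2⟩ : T')
  exact ((Module.End.isUnit_iff _).mp hunit).1 (h2.trans (map_zero _).symm)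

/-- Flatness of a base change of a stalk from flatness at the primes above. -/
theorem descend {R C A' C' : Type u} [CommRing R] [CommRing C] [CommRing A'] [CommRing C']
    [Algebra R C] [Algebra R A'] [Algebra C C'] [Algebra A' C'] [Algebra R C'] [IsScalarTower R C C']
    [IsScalarTower R A' C'] [Algebra.IsPushout R C A' C'] (n : Ideal C) [n.IsPrime]
    (G : Type u) [AddCommGroup G] [Module C G] [Module R G] [IsScalarTower R C G] (I : Ideal A')
    (h : ∀ Q : Ideal C', Q.IsPrime → I.map (algebraMap A' C') ≤ Q → Q.comap (algebraMap C C') ≤ n →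
      ∃ q : PrimeSpectrum C', Q ≤ q.asIdeal ∧ FlatCA.FlatAt A' q.asIdeal (C' ⊗[C] G)) :
    Module.Flat (A' ⧸ I) ((A' ⧸ I) ⊗[R] LocalizedModule n.primeCompl G) := by
  haveI : Algebra.IsPushout R A' C C' := Algebra.IsPushout.symm inferInstance
  let Gn := LocalizedModule n.primeCompl G
  let m := LocalizedModule.mkLinearMap n.primeCompl G
  let l : C' ⊗[C] G →ₗ[C'] C' ⊗[C] Gn := m.baseChange C'
  haveI : IsLocalizedModule n.primeCompl (l.restrictScalars C) := by
    have : IsLocalizedModule n.primeCompl (AlgebraTensorModule.rTensor C C' m) := inferInstance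
    have e : l.restrictScalars C = (TensorProduct.comm C Gn C').toLinearMap ∘ₗ
        AlgebraTensorModule.rTensor C C' m ∘ₗ (TensorProduct.comm C C' G).toLinearMap := by
      ext; simp [l, Gn, m]
    rw [e]
    infer_instance
  haveI := flat_quot_localized I n.primeCompl l fun Q hQ hI hdis =>
    h Q hQ hI fun c hc => by_contra fun hcn => hdis c hcn hc
  let e : (A' ⧸ I) ⊗[A'] (C' ⊗[C] Gn) ≃ₗ[A' ⧸ I] (A' ⧸ I) ⊗[R] Gn :=
    (AlgebraTensorModule.congr (LinearEquiv.refl (A' ⧸ I) (A' ⧸ I))
      (Algebra.IsPushout.cancelBaseChange R A' C C' Gn)).trans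
      (AlgebraTensorModule.cancelBaseChange R A' (A' ⧸ I) (A' ⧸ I) Gn)
  exact Module.Flat.of_linearEquiv e.symm

end Groth.Agent.S2Crit6
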