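import Groth.Agent.QGorLib.FibInj
import Groth.Agent.Depth.CM
import Groth.Agent.FlatMor.FlatAtBC
import Mathlib.RingTheory.Flat.Stability
import Mathlib.RingTheory.TensorProduct.Quotient
import Mathlib.RingTheory.IsTensorProduct
import Mathlib.RingTheory.Localization.Ideal
import Mathlib.RingTheory.KrullDimension.Module

/-!
Depth of fibre local rings: from Serre's `S₂`, and under extension of the base field.
-/

set_option autoImplicit false
set_option linter.style.haveILetI false
set_option maxHeartbeats 800000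

universe u

open TensorProduct IsLocalRing

namespace Groth.Agent.S2Crit6

variable {R C : Type u} [CommRing R] [CommRing C] [IsLocalRing R] [IsNoetherianRing C] [Algebra R C]
  (n : Ideal C) [n.IsPrime] (J : Ideal C)

/-- `S₂` of the fibre at `n` and fibre dimension at least two along `J` give depth at least two along `J`. -/
theorem two_le_fibRing (hn : n.comap (algebraMap R C) = maximalIdeal R)
    (hS2 : LocCoh.HasSk 2 (EGA4.FibLocRing R C n) (EGA4.FibLocRing R C n))
    (hcodim : ∀ q : PrimeSpectrum C, J ≤ q.asIdeal →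
      (2 : WithBot ℕ∞) ≤ ringKrullDim (EGA4.FibLocRing R C q.asIdeal)) :
    2 ≤ LocCoh.idealDepth (J.map (algebraMap C (EGA4.FibLocRing R C n))) (EGA4.FibLocRing R C n) := by
  rw [Depth.idealDepth_eq_iInf_depth]
  refine le_iInf₂ fun P hP => ?_
  let Φ := EGA4.FibLocRing R C n
  let ΦP := Localization.AtPrime P.asIdeal
  suffices h : (2 : WithBot ℕ∞) ≤
      Module.supportDim ΦP (LocalizedModule P.asIdeal.primeCompl Φ) by
    have h' := hS2 P.asIdeal
    rw [min_eq_left (by exact_mod_cast h)] at h'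
    exact WithBot.coe_le_coe.mp (le_trans (by norm_cast) h')
  show (2 : WithBot ℕ∞) ≤ Module.supportDim ΦP ΦP
  rw [Module.supportDim_self_eq_ringKrullDim]
  let q : PrimeSpectrum C := ⟨P.asIdeal.comap (algebraMap C Φ), Ideal.IsPrime.comap _⟩
  have hJq : J ≤ q.asIdeal := Ideal.map_le_iff_le_comap.mp hP
  refine (hcodim q hJq).trans ?_
  have hqn : q.asIdeal ≤ n := fun x hx => by_contra fun hxn => P.2.ne_top (Ideal.eq_top_of_isUnit_mem _ hx
    (by
      rw [IsScalarTower.algebraMap_apply C (Localization.AtPrime n) Φ]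
      exact (IsLocalization.map_units (Localization.AtPrime n) (⟨x, hxn⟩ : n.primeCompl)).map _))
  have hqm : q.asIdeal.comap (algebraMap R C) = maximalIdeal R := by
    refine le_antisymm (le_maximalIdeal (Ideal.IsPrime.comap _).ne_top) fun r hr => ?_
    show algebraMap C Φ (algebraMap R C r) ∈ P.asIdeal
    rw [← IsScalarTower.algebraMap_apply R C Φ, IsScalarTower.algebraMap_apply R (Localization.AtPrime n) Φ,
      Ideal.Quotient.algebraMap_eq, Ideal.Quotient.eq_zero_iff_mem.mpr
        (Ideal.mem_map_of_mem _ (hn.symm ▸ hr))]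
    exact zero_mem _
  let Φq := EGA4.FibLocRing R C q.asIdeal
  let gn : Localization.AtPrime n →+* Φq := IsLocalization.lift (M := n.primeCompl) (g := algebraMap C Φq)
    fun c => by
      rw [IsScalarTower.algebraMap_apply C (Localization.AtPrime q.asIdeal) Φq]
      exact (IsLocalization.map_units (Localization.AtPrime q.asIdeal)
        (⟨c, fun h => c.2 (hqn h)⟩ : q.asIdeal.primeCompl)).map _
  have hgn : ∀ c, gn (algebraMap C _ c) = algebraMap C Φq c := IsLocalization.lift_eq _
  let g : Φ →+* Φq := Ideal.Quotient.lift _ gn (fun a ha => RingHom.mem_ker.mp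
    ((Ideal.map_le_iff_le_comap.mpr fun r hr => by
      rw [Ideal.mem_comap, RingHom.mem_ker, IsScalarTower.algebraMap_apply R C, hgn,
        ← IsScalarTower.algebraMap_apply R C Φq, IsScalarTower.algebraMap_apply R (Localization.AtPrime q.asIdeal) Φq,
        Ideal.Quotient.algebraMap_eq, Ideal.Quotient.eq_zero_iff_mem]
      exact Ideal.mem_map_of_mem _ (hqm.symm ▸ (hn ▸ hr))) ha))
  have hg : ∀ c, g (algebraMap C Φ c) = algebraMap C Φq c := fun c => hgn c
  have hsC : ∀ y : Φ, ∃ c s, s ∉ n ∧ algebraMap C Φ s * y = algebraMap C Φ c := fun y => by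
    obtain ⟨z, rfl⟩ := Ideal.Quotient.mk_surjective y
    obtain ⟨⟨c, s⟩, h⟩ := IsLocalization.surj n.primeCompl z
    exact ⟨c, s, s.2, by
      rw [IsScalarTower.algebraMap_apply C (Localization.AtPrime n) Φ,
        IsScalarTower.algebraMap_apply C (Localization.AtPrime n) Φ, ← h, map_mul, mul_comm]; rfl⟩
  let G : ΦP →+* Φq := IsLocalization.lift (M := P.asIdeal.primeCompl) (g := g) fun y => by
    obtain ⟨c, s, hs, h⟩ := hsC y
    have hu : ∀ c : C, c ∉ q.asIdeal → IsUnit (algebraMap C Φq c) := fun c hc => by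
      rw [IsScalarTower.algebraMap_apply C (Localization.AtPrime q.asIdeal) Φq]
      exact (IsLocalization.map_units (Localization.AtPrime q.asIdeal) (⟨c, hc⟩ : q.asIdeal.primeCompl)).map _
    have hc : c ∉ q.asIdeal := fun hc => by
      have : algebraMap C Φ s * y ∈ P.asIdeal := h ▸ hc
      exact (P.2.mem_or_mem this).elim (fun h' => hs (hqn h')) y.2
    have := hu c hc
    rw [← hg, ← h, map_mul, hg] at this
    exact isUnit_of_mul_isUnit_right this
  have hG : ∀ y, G (algebraMap Φ ΦP y) = g y := IsLocalization.lift_eq _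
  refine ringKrullDim_le_of_surjective G fun z => ?_
  obtain ⟨w, rfl⟩ := Ideal.Quotient.mk_surjective z
  obtain ⟨⟨c, s⟩, h⟩ := IsLocalization.surj q.asIdeal.primeCompl w
  obtain ⟨u, hu⟩ := (IsLocalization.map_units ΦP
    (⟨algebraMap C Φ s, s.2⟩ : P.asIdeal.primeCompl)).exists_right_inv
  refine ⟨algebraMap Φ ΦP (algebraMap C Φ c) * u, ?_⟩
  have h1 : G u * algebraMap C Φq s = 1 := by
    rw [← hg, ← hG, ← map_mul, mul_comm, hu, map_one]
  rw [map_mul, hG, hg, IsScalarTower.algebraMap_apply C (Localization.AtPrime q.asIdeal) Φq,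
    ← h, map_mul]
  show Ideal.Quotient.mk _ w * algebraMap C Φq s * G u = _
  rw [mul_assoc, mul_comm (algebraMap C Φq s), h1, mul_one]

variable {A' C' : Type u} [CommRing A'] [CommRing C'] [IsLocalRing A'] [IsNoetherianRing C']
  [Algebra R A'] [Algebra C C'] [Algebra A' C'] [Algebra R C'] [IsScalarTower R C C'] [IsScalarTower R A' C']
  [Algebra.IsPushout R C A' C'] [IsLocalHom (algebraMap R A')]

/-- Depth along `J` of a fibre does not drop under extension of the base field. -/
theorem two_le_fib_baseChange (hn : n.comap (algebraMap R C) = maximalIdeal R) (q' : Ideal C') [q'.IsPrime]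
    (hq : q'.comap (algebraMap C C') = n)
    (h : 2 ≤ LocCoh.idealDepth (J.map (algebraMap C (EGA4.FibLocRing R C n))) (EGA4.FibLocRing R C n)) :
    2 ≤ LocCoh.idealDepth ((J.map (algebraMap C C')).map (algebraMap C' (Localization.AtPrime q')))
      (EGA4.FibRing A' (Localization.AtPrime q')) := by
  let I : Ideal C := (maximalIdeal R).map (algebraMap R C)
  let I' : Ideal C' := (maximalIdeal A').map (algebraMap A' C')
  let Cn := Localization.AtPrime n
  let Sq := Localization.AtPrime q'
  let C0 := C ⧸ I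
  let Φ0 := Cn ⧸ I.map (algebraMap C Cn)
  let T := C' ⧸ I'
  let Φ' := Sq ⧸ I'.map (algebraMap C' Sq)
  -- `T` is free over `C0`
  have hII' : I ≤ I'.comap (algebraMap C C') := Ideal.map_le_iff_le_comap.mpr fun r hr => by
    show algebraMap C C' (algebraMap R C r) ∈ I'
    rw [← IsScalarTower.algebraMap_apply R C C', IsScalarTower.algebraMap_apply R A' C']
    exact Ideal.mem_map_of_mem _ (IsLocalRing.map_maximalIdeal_le (algebraMap R A') (Ideal.mem_map_of_mem _ hr))
  letI : Algebra C0 T := Ideal.Quotient.algebraQuotientOfLEComap hII'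
  haveI : IsScalarTower C C0 T := IsScalarTower.of_algebraMap_eq fun _ => rfl
  have hX : maximalIdeal R • (⊤ : Submodule R (A' ⧸ maximalIdeal A')) = ⊥ := by
    rw [eq_bot_iff, Submodule.smul_le]
    intro r hr y _
    obtain ⟨y, rfl⟩ := Ideal.Quotient.mk_surjective y
    rw [Submodule.mem_bot, Algebra.smul_def, IsScalarTower.algebraMap_apply R A' (A' ⧸ maximalIdeal A'),
      Ideal.Quotient.algebraMap_eq, ← map_mul, Ideal.Quotient.eq_zero_iff_mem]
    exact Ideal.mul_mem_right _ _ (IsLocalRing.map_maximalIdeal_le (algebraMap R A') (Ideal.mem_map_of_mem _ hr))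
  haveI : Module.Flat C0 T := by
    obtain ⟨ι, -, ⟨e⟩⟩ := QGorLib.FibInj.exists_equiv_finsupp (B := C) (M := C) (A' ⧸ maximalIdeal A') hX
    let e1 : T ≃ₗ[C] C ⊗[R] (A' ⧸ maximalIdeal A') :=
      ((Algebra.TensorProduct.quotIdealMapEquivTensorQuot C' (maximalIdeal A')).toLinearEquiv.restrictScalars
        C).trans (Algebra.IsPushout.cancelBaseChange R C A' C' (A' ⧸ maximalIdeal A'))
    let e2 : EGA4.FibMod R C C ≃ₗ[C] C0 := Submodule.quotEquivOfEq _ _ (by
      rw [Ideal.smul_eq_mul, Ideal.mul_top])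
    let e3 : T ≃ₗ[C] (ι →₀ C0) := (e1.trans e).trans (Finsupp.mapRange.linearEquiv e2)
    exact Module.Flat.of_linearEquiv (e3.extendScalarsOfSurjective (S := C0) Ideal.Quotient.mk_surjective)
  -- `Φ'` is flat over `C0`
  letI : Algebra C0 Φ' := ((algebraMap T Φ').comp (algebraMap C0 T)).toAlgebra
  haveI : IsScalarTower C0 T Φ' := IsScalarTower.of_algebraMap_eq fun _ => rfl
  haveI : IsScalarTower C C0 Φ' := IsScalarTower.of_algebraMap_eq fun _ => rfl
  haveI : Module.Flat C' Sq := IsLocalization.flat Sq q'.primeCompl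
  haveI : Module.Flat T Φ' := by
    let e : Φ' ≃ₗ[C'] T ⊗[C'] Sq :=
      ((Algebra.TensorProduct.quotIdealMapEquivTensorQuot Sq I').toLinearEquiv.restrictScalars C').trans
        (TensorProduct.comm C' Sq T)
    exact Module.Flat.of_linearEquiv (e.extendScalarsOfSurjective (S := T) Ideal.Quotient.mk_surjective)
  haveI : Module.Flat C0 Φ' := Module.Flat.trans C0 T Φ'
  -- through the localisation `Φ0`
  let M0 := Algebra.algebraMapSubmonoid C0 n.primeCompl
  have hunit : ∀ y : M0, IsUnit (algebraMap C0 Φ' y) := by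
    rintro ⟨_, c, hc, rfl⟩
    rw [← IsScalarTower.algebraMap_apply C C0 Φ', IsScalarTower.algebraMap_apply C C' Φ',
      IsScalarTower.algebraMap_apply C' Sq Φ']
    exact (IsLocalization.map_units Sq (⟨algebraMap C C' c, fun hm => hc (hq ▸ hm)⟩ : q'.primeCompl)).map _
  letI : Algebra Φ0 Φ' := (IsLocalization.lift hunit : Φ0 →+* Φ').toAlgebra
  haveI : IsScalarTower C0 Φ0 Φ' := IsScalarTower.of_algebraMap_eq fun x => (IsLocalization.lift_eq hunit x).symm
  haveI : IsScalarTower C Φ0 Φ' := IsScalarTower.of_algebraMap_eq fun x =>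
    (IsScalarTower.algebraMap_apply C C0 Φ' x).trans ((IsScalarTower.algebraMap_apply C0 Φ0 Φ' _).trans
      (congrArg (algebraMap Φ0 Φ') (IsScalarTower.algebraMap_apply C C0 Φ0 x).symm))
  haveI : Module.Flat Φ0 Φ' := (Module.flat_iff_of_isLocalization Φ0 M0 Φ').mpr inferInstance
  have heq : (n.comap (algebraMap R C)).map (algebraMap R Cn) = I.map (algebraMap C Cn) := by
    rw [hn, Ideal.map_map, ← IsScalarTower.algebraMap_eq]
  have h0 : 2 ≤ LocCoh.idealDepth (J.map (algebraMap C Φ0)) Φ0 := by
    rw [IsScalarTower.algebraMap_eq C Cn Φ0, ← Ideal.map_map,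
      Depth.idealDepth_map_of_surjective Ideal.Quotient.mk_surjective]
    rw [IsScalarTower.algebraMap_eq C Cn (EGA4.FibLocRing R C n), ← Ideal.map_map,
      Depth.idealDepth_map_of_surjective Ideal.Quotient.mk_surjective] at h
    exact h.trans_eq (Depth.idealDepth_congr (Submodule.quotEquivOfEq _ _ heq))
  have h1 := h0.trans (Depth.idealDepth_le_idealDepth_of_isBaseChange (IsBaseChange.linearMap Φ0 Φ'))
  rw [Ideal.map_map (I := J), ← IsScalarTower.algebraMap_eq, IsScalarTower.algebraMap_eq C Sq Φ', ← Ideal.map_map,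
    Depth.idealDepth_map_of_surjective Ideal.Quotient.mk_surjective] at h1
  rw [Ideal.map_map, ← IsScalarTower.algebraMap_eq]
  exact h1.trans_eq (Depth.idealDepth_congr (Submodule.quotEquivOfEq _ _ (by
    show I'.map (algebraMap C' Sq) = EGA4.mB A' Sq
    rw [EGA4.mB, Ideal.map_map, ← IsScalarTower.algebraMap_eq])))

end Groth.Agent.S2Crit6
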