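import Groth.Agent.S18711
import Groth.Agent.QGorLib.Refl

/-!
The resolution of a reflexive module and localisation of its double dual.
-/

set_option autoImplicit false
set_option linter.style.haveILetI false
set_option maxHeartbeats 800000

universe u

open TensorProduct

namespace Groth.Agent.S2Crit6

open ExtOff6

variable {C : Type u} [CommRing C]

theorem factors_dual {F : Type u} [AddCommGroup F] [Module C F] {t : C} (h : Factors F t) :
    Factors (Module.Dual C F) t := by
  obtain ⟨k, a, b, hab⟩ := h
  let e : Module.Dual C (Fin k → C) ≃ₗ[C] (Fin k → C) := ((Pi.basisFun C (Fin k)).constr C).symm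
  refine ⟨k, e.toLinearMap ∘ₗ b.dualMap, a.dualMap ∘ₗ e.symm.toLinearMap, fun φ => LinearMap.ext fun x => ?_⟩
  show (a.dualMap (e.symm (e (b.dualMap φ)))) x = _
  rw [e.symm_apply_apply]
  show φ (b (a x)) = t • φ x
  rw [hab, map_smul]

/-- A reflexive module, projective off `V(J)`, is the kernel of a map of free modules whose cokernel is
projective off `V(J)`. -/
theorem exists_resolution [IsNoetherianRing C] (F : Type u) [AddCommGroup F] [Module C F] [Module.Finite C F]
    [Module.IsReflexive C F] (J : Ideal C)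
    (hFU : ∀ q : PrimeSpectrum C, ¬ J ≤ q.asIdeal →
      Module.Free (Localization.AtPrime q.asIdeal) (LocalizedModule q.asIdeal.primeCompl F)) :
    ∃ (a b : ℕ) (f : F →ₗ[C] (Fin a → C)) (u : (Fin a → C) →ₗ[C] (Fin b → C)) (N : ℕ),
      Function.Injective f ∧ Function.Exact f u ∧ J ^ (N + 1) ≤ factorIdeal F ∧
      J ^ (N + 1) ≤ factorIdeal ((Fin b → C) ⧸ LinearMap.range u) := by
  classical
  obtain ⟨N, hN⟩ := exists_pow_le J hFU
  have hN' : J ^ (N + 1) ≤ factorIdeal F := (Ideal.pow_le_pow_right (Nat.le_succ N)).trans hN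
  haveI := QGorLib.Refl.finite_dual (A := C) F
  obtain ⟨a, π, hπ⟩ := Module.Finite.exists_fin' C (Module.Dual C F)
  haveI : Module.Finite C (LinearMap.ker π) := Module.Finite.iff_fg.mpr (IsNoetherian.noetherian _)
  obtain ⟨b, ρ, hρ⟩ := Module.Finite.exists_fin' C (LinearMap.ker π)
  let h : (Fin b → C) →ₗ[C] (Fin a → C) := (LinearMap.ker π).subtype ∘ₗ ρ
  let ea : Module.Dual C (Fin a → C) ≃ₗ[C] (Fin a → C) := ((Pi.basisFun C (Fin a)).constr C).symm
  let eb : Module.Dual C (Fin b → C) ≃ₗ[C] (Fin b → C) := ((Pi.basisFun C (Fin b)).constr C).symm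
  let u : (Fin a → C) →ₗ[C] (Fin b → C) := eb.toLinearMap ∘ₗ h.dualMap ∘ₗ ea.symm.toLinearMap
  let f : F →ₗ[C] (Fin a → C) := ea.toLinearMap ∘ₗ π.dualMap ∘ₗ Module.Dual.eval C F
  refine ⟨a, b, f, u, N, ?_, ?_, hN', fun t ht => ?_⟩
  · exact ea.injective.comp ((LinearMap.dualMap_injective_of_surjective hπ).comp
      (Module.bijective_dual_eval C F).1)
  · intro v
    obtain ⟨φ, rfl⟩ := ea.surjective v
    constructor
    · intro hφ
      have hφ' : h.dualMap φ = 0 := by
        apply eb.injective
        rw [map_zero, ← hφ]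
        show eb (h.dualMap φ) = eb (h.dualMap (ea.symm (ea φ)))
        rw [ea.symm_apply_apply]
      have hV : LinearMap.ker π ≤ LinearMap.ker φ := by
        intro z hz
        obtain ⟨w, hw⟩ := hρ ⟨z, hz⟩
        have := LinearMap.congr_fun hφ' w
        simpa [h, hw] using this
      obtain ⟨x, hx⟩ := (Module.bijective_dual_eval C F).2
        ((LinearMap.ker π).liftQ φ hV ∘ₗ (π.quotKerEquivOfSurjective hπ).symm.toLinearMap)
      refine ⟨x, congrArg ea (LinearMap.ext fun z => ?_)⟩
      show Module.Dual.eval C F x (π z) = φ z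
      rw [hx]
      have h5 : (π.quotKerEquivOfSurjective hπ).symm (π z) = Submodule.Quotient.mk z := by
        rw [LinearEquiv.symm_apply_eq]; rfl
      simp [h5]
    · rintro ⟨x, hx⟩
      rw [← hx]
      show eb (h.dualMap (ea.symm (ea (π.dualMap (Module.Dual.eval C F x))))) = 0
      rw [ea.symm_apply_apply, eb.map_eq_zero_iff]
      refine LinearMap.ext fun w => ?_
      show Module.Dual.eval C F x (π ((LinearMap.ker π).subtype (ρ w))) = 0
      rw [show π ((LinearMap.ker π).subtype (ρ w)) = 0 from (ρ w).2, map_zero]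
  · obtain ⟨k, a', b', hab⟩ := factors_dual (hN' ht)
    obtain ⟨bl, hbl⟩ := Module.projective_lifting_property π b' hπ
    let D : (Fin a → C) →ₗ[C] (Fin a → C) := t • LinearMap.id - bl ∘ₗ a' ∘ₗ π
    have hD : ∀ x, D x ∈ LinearMap.ker π := fun x => by
      rw [LinearMap.mem_ker]
      have := LinearMap.congr_fun hbl (a' (π x))
      simp only [LinearMap.coe_comp, Function.comp_apply] at this
      simp [D, this, hab]
    obtain ⟨σ, hσ⟩ := Module.projective_lifting_property ρ (D.codRestrict _ hD) hρ
    have hσh : ∀ y, h (σ (h y)) = t • h y := fun y => by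
      show ((ρ (σ (h y)) : LinearMap.ker π) : Fin a → C) = _
      rw [show ρ (σ (h y)) = _ from LinearMap.congr_fun hσ (h y)]
      show D (h y) = _
      simp [D, h]
    let σ' : (Fin b → C) →ₗ[C] (Fin a → C) := ea.toLinearMap ∘ₗ σ.dualMap ∘ₗ eb.symm.toLinearMap
    let m : (Fin b → C) →ₗ[C] (Fin b → C) := t • LinearMap.id - u ∘ₗ σ'
    have hm : LinearMap.range u ≤ LinearMap.ker m := by
      rintro _ ⟨x, rfl⟩
      rw [LinearMap.mem_ker]
      show t • u x - u (σ' (u x)) = 0
      rw [sub_eq_zero]
      obtain ⟨φ, rfl⟩ := ea.surjective x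
      show t • eb (h.dualMap (ea.symm (ea φ))) =
        eb (h.dualMap (ea.symm (ea (σ.dualMap (eb.symm (eb (h.dualMap (ea.symm (ea φ)))))))))
      rw [ea.symm_apply_apply, ea.symm_apply_apply, eb.symm_apply_apply, ← map_smul]
      refine congrArg eb (LinearMap.ext fun y => ?_)
      show t • φ (h y) = φ (h (σ (h y)))
      rw [hσh, map_smul]
    refine ⟨b, (LinearMap.range u).liftQ m hm, (LinearMap.range u).mkQ, fun z => ?_⟩
    obtain ⟨z, rfl⟩ := Submodule.mkQ_surjective _ z
    show (LinearMap.range u).mkQ (t • z - u (σ' z)) = t • (LinearMap.range u).mkQ z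
    rw [map_sub, map_smul, Submodule.mkQ_apply _ (u (σ' z)),
      (Submodule.Quotient.mk_eq_zero (LinearMap.range u)).mpr (LinearMap.mem_range_self u (σ' z)), sub_zero]

variable [IsNoetherianRing C] (S : Submonoid C)

/-- Localised kernels inherit depth two. -/
theorem localized_kernel {I : Ideal (Localization S)} {M P Q : Type u} [AddCommGroup M] [Module C M]
    [AddCommGroup P] [Module C P] [AddCommGroup Q] [Module C Q] (f : M →ₗ[C] P) (g : P →ₗ[C] Q)
    (hf : Function.Injective f) (hfg : Function.Exact f g)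
    (h : NoTors I (LocalizedModule S P)) (h' : Ext1 I (LocalizedModule S P))
    (hQ : NoTors I (LocalizedModule S Q)) :
    NoTors I (LocalizedModule S M) ∧ Ext1 I (LocalizedModule S M) := by
  obtain ⟨k1, k2⟩ := ExtOff6.kernel (LocalizedModule.map S g) h h' hQ
  have hex : Function.Exact (LocalizedModule.map S f) (LocalizedModule.map S g) :=
    LocalizedModule.map_exact S f g hfg
  let e : LinearMap.ker (LocalizedModule.map S g) ≃ₗ[Localization S] LocalizedModule S M :=
    (LinearEquiv.ofEq _ _ (LinearMap.exact_iff.mp hex)).trans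
      (LinearEquiv.ofInjective _ (LocalizedModule.map_injective S f hf)).symm
  exact ⟨noTors_of_equiv e k1, ext1_of_equiv e k2⟩

/-- A map with quasi-inverses along `I` is bijective after localisation when the depth is two. -/
theorem bijective_localized {M N : Type u} [AddCommGroup M] [Module C M] [AddCommGroup N] [Module C N]
    (I : Ideal C) (f : M →ₗ[C] N)
    (hg : ∀ t ∈ I, ∃ g : N →ₗ[C] M, (∀ x, g (f x) = t • x) ∧ ∀ y, f (g y) = t • y)
    (hM : NoTors (I.map (algebraMap C (Localization S))) (LocalizedModule S M))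
    (hM' : Ext1 (I.map (algebraMap C (Localization S))) (LocalizedModule S M))
    (hN : NoTors (I.map (algebraMap C (Localization S))) (LocalizedModule S N)) :
    Function.Bijective (LocalizedModule.map S f) := by
  refine ExtOff6.bijective _ (fun t ht => ?_) hM hM' hN
  rw [Ideal.map] at ht
  induction ht using Submodule.span_induction with
  | mem t ht =>
    obtain ⟨t, htI, rfl⟩ := ht
    obtain ⟨g, h1, h2⟩ := hg t htI
    refine ⟨LocalizedModule.map S g, fun x => ?_, fun y => ?_⟩
    · induction x using LocalizedModule.induction_on with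
      | h m s => simp [LocalizedModule.map_mk, h1, LocalizedModule.smul'_mk]
    · induction y using LocalizedModule.induction_on with
      | h m s => simp [LocalizedModule.map_mk, h2, LocalizedModule.smul'_mk]
  | zero => exact ⟨0, fun x => by simp, fun y => by simp⟩
  | add a b _ _ ha hb =>
    obtain ⟨g, h1, h2⟩ := ha
    obtain ⟨g', h1', h2'⟩ := hb
    exact ⟨g + g', fun x => by simp [h1, h1', add_smul], fun y => by simp [h2, h2', add_smul]⟩
  | smul c a _ ha =>
    obtain ⟨g, h1, h2⟩ := ha
    exact ⟨c • g, fun x => by simp [h1, mul_smul], fun y => by simp [h2, mul_smul]⟩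

end Groth.Agent.S2Crit6
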