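import Groth.Agent.S2Crit6.Depth
import Groth.Agent.S2Crit6.Fibre
import Groth.Agent.S2Crit6.Resolution
import Groth.Agent.S2Crit6.Descend
import Groth.Agent.EGA4Lib.Hyperplane

/-!
Flatness of the cokernel of a free resolution of a reflexive module from the double dual of its base change.
-/

set_option autoImplicit false
set_option linter.style.haveILetI false
set_option maxHeartbeats 1600000
set_option synthInstance.maxHeartbeats 200000

universe u

open TensorProduct IsLocalRing

namespace Groth.Agent.S2Crit6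

open ExtOff6

theorem hasSk_transfer {B M N : Type u} [CommRing B] [AddCommGroup M] [Module B M] [AddCommGroup N]
    [Module B N] {a b : Ideal B} (e : M ≃ₗ[B] N) (h : a = b)
    (hsk : LocCoh.HasSk 2 (B ⧸ a) (M ⧸ (a • (⊤ : Submodule B M)))) :
    LocCoh.HasSk 2 (B ⧸ b) (N ⧸ (b • (⊤ : Submodule B N))) := by
  subst h
  exact EGA4Lib.hasSk_congr ((Submodule.Quotient.equiv _ _ e (by
    rw [Submodule.map_smul'', Submodule.map_top, LinearEquiv.range])).extendScalarsOfSurjective
      Ideal.Quotient.mk_surjective) hsk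

theorem hasSk_self_transfer {B : Type u} [CommRing B] {a b : Ideal B} (h : a = b)
    (hsk : LocCoh.HasSk 2 (B ⧸ a) (B ⧸ a)) : LocCoh.HasSk 2 (B ⧸ b) (B ⧸ b) := by subst h; exact hsk

theorem flatAt_of_factors {A B : Type u} [CommRing A] [CommRing B] [Algebra A B] [Module.Flat A B]
    {Y : Type u} [AddCommGroup Y] [Module B Y] [Module A Y] [IsScalarTower A B Y] {t : B} (h : Factors Y t)
    (q : Ideal B) [q.IsPrime] (ht : t ∉ q) : FlatCA.FlatAt A q Y := by
  obtain ⟨k, a, b, hab⟩ := h
  let a' := LocalizedModule.map q.primeCompl a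
  let b' := LocalizedModule.map q.primeCompl b
  obtain ⟨w, hw⟩ := (IsLocalization.map_units (Localization.AtPrime q) (⟨t, ht⟩ : q.primeCompl)).exists_left_inv
  haveI : Module.Flat A (Fin k → B) := Module.Flat.trans A B (Fin k → B)
  haveI : Module.Flat A (LocalizedModule q.primeCompl (Fin k → B)) :=
    FlatMor.FlatAtBC.flat_localizedModule A _ _
  show Module.Flat A (LocalizedModule q.primeCompl Y)
  have hba : ∀ z, b' (a' z) = algebraMap B (Localization.AtPrime q) t • z := fun z => by
    induction z using LocalizedModule.induction_on with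
    | h m s => simp [a', b', LocalizedModule.map_mk, hab, LocalizedModule.smul'_mk]
  refine Module.Flat.of_retract (R := A) (M := LocalizedModule q.primeCompl (Fin k → B))
    ((a'.restrictScalars B).restrictScalars A) (((w • b').restrictScalars B).restrictScalars A)
    (LinearMap.ext fun z => ?_)
  show w • b' (a' z) = z
  rw [hba, smul_smul, hw, one_smul]

/-- The closed fibre of a localised free module. -/
theorem exists_fibEquiv (A : Type u) {B : Type u} [CommRing A] [IsLocalRing A] [CommRing B] [Algebra A B]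
    (q : Ideal B) [q.IsPrime] [IsNoetherianRing B] [Algebra A (Localization.AtPrime q)]
    (X : Type u) [AddCommGroup X] [Module B X] [Module.Finite B X] [Module.Projective B X] :
    ∃ r : ℕ, Nonempty ((Fin r → EGA4.FibRing A (Localization.AtPrime q)) ≃ₗ[Localization.AtPrime q]
      EGA4.FibMod A (Localization.AtPrime q) (LocalizedModule q.primeCompl X)) := by
  let Sq := Localization.AtPrime q
  haveI : Module.Flat Sq (LocalizedModule q.primeCompl X) :=
    Module.Flat.of_linearEquiv (LocalizedModule.equivTensorProduct q.primeCompl X)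
  haveI : Module.Finite Sq (LocalizedModule q.primeCompl X) :=
    Module.Finite.of_isLocalizedModule q.primeCompl (LocalizedModule.mkLinearMap q.primeCompl X)
  haveI : Module.Free Sq (LocalizedModule q.primeCompl X) := Module.free_of_flat_of_isLocalRing
  let b := (Module.finBasis Sq (LocalizedModule q.primeCompl X)).equivFun
  exact ⟨_, ⟨((TensorProduct.piScalarRight Sq Sq (Sq ⧸ EGA4.mB A Sq) _).symm.trans
    (TensorProduct.congr (LinearEquiv.refl Sq _) b.symm)).trans
      (TensorProduct.quotTensorEquivQuotSMul _ (EGA4.mB A Sq))⟩⟩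

/-- The comparison map to the kernel of the base changed resolution. -/
theorem exists_comparison {C C' : Type u} [CommRing C] [CommRing C'] [Algebra C C'] {F : Type u} [AddCommGroup F]
    [Module C F] {a b : ℕ} (f : F →ₗ[C] (Fin a → C)) (u : (Fin a → C) →ₗ[C] (Fin b → C))
    (hf : Function.Injective f) (hfu : Function.Exact f u) (I : Ideal C)
    (hG : I ≤ factorIdeal ((Fin b → C) ⧸ LinearMap.range u)) :
    I.map (algebraMap C C') ≤ factorIdeal (LinearMap.ker (u.baseChange C')) ∧
    ∃ φ : C' ⊗[C] F →ₗ[C'] LinearMap.ker (u.baseChange C'), ∀ t ∈ I.map (algebraMap C C'),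
      ∃ g : LinearMap.ker (u.baseChange C') →ₗ[C'] C' ⊗[C] F,
        (∀ x, g (φ x) = t • x) ∧ ∀ y, φ (g y) = t • y := by
  set u' := u.baseChange C'
  set K := LinearMap.ker u'
  let v := (LinearMap.range u).mkQ
  have hmemF : ∀ z, f.baseChange C' z ∈ K := fun z => by
    rw [LinearMap.mem_ker, ← LinearMap.comp_apply u', ← LinearMap.baseChange_comp,
      hfu.linearMap_comp_eq_zero]
    simp
  let φ : C' ⊗[C] F →ₗ[C'] K := (f.baseChange C').codRestrict K hmemF
  have hquasi : ∀ t ∈ I, ∃ ρ : C' ⊗[C] (Fin a → C) →ₗ[C'] C' ⊗[C] F,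
      (∀ x, ρ (K.subtype (φ x)) = algebraMap C C' t • x) ∧
        ∀ y : K, φ (ρ (K.subtype y)) = algebraMap C C' t • y := by
    intro t ht
    obtain ⟨ρ, σ, h⟩ := S18711.exists_rho f u v hf hfu (LinearMap.exact_map_mkQ_range u)
      (Submodule.mkQ_surjective _) (hG ht)
    refine ⟨ρ.baseChange C', fun x => ?_, fun y => Subtype.ext ?_⟩
    · show ρ.baseChange C' (f.baseChange C' x) = _
      rw [← LinearMap.comp_apply, ← LinearMap.baseChange_comp,
        show ρ ∘ₗ f = t • LinearMap.id from LinearMap.ext fun z => hf (by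
          rw [LinearMap.comp_apply, h, hfu.apply_apply_eq_zero, map_zero, sub_zero]
          simp),
        LinearMap.baseChange_smul, LinearMap.baseChange_id, LinearMap.smul_apply, LinearMap.id_apply,
        algebraMap_smul]
    · show f.baseChange C' (ρ.baseChange C' (y : C' ⊗[C] (Fin a → C))) = algebraMap C C' t • (y : _)
      rw [← LinearMap.comp_apply, ← LinearMap.baseChange_comp,
        show f ∘ₗ ρ = t • LinearMap.id - σ ∘ₗ u from LinearMap.ext h, LinearMap.baseChange_sub,
        LinearMap.baseChange_smul, LinearMap.baseChange_id, LinearMap.sub_apply, LinearMap.baseChange_comp,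
        LinearMap.comp_apply, show u.baseChange C' (y : C' ⊗[C] (Fin a → C)) = 0 from y.2, map_zero, sub_zero,
        LinearMap.smul_apply, LinearMap.id_apply, algebraMap_smul]
  refine ⟨Ideal.map_le_iff_le_comap.mpr fun t ht => ?_, φ, fun t ht => ?_⟩
  · obtain ⟨ρ, -, hρ⟩ := hquasi t ht
    haveI : Module.Finite C' (C' ⊗[C] (Fin a → C)) := Module.Finite.base_change C C' _
    exact S18711.factors_of_rho (B := C') (F := K) (E := C' ⊗[C] (Fin a → C)) (t := algebraMap C C' t)
      K.subtype (φ ∘ₗ ρ) hρ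
  · rw [Ideal.map] at ht
    induction ht using Submodule.span_induction with
    | mem t ht =>
      obtain ⟨t, htI, rfl⟩ := ht
      obtain ⟨ρ, h1, h2⟩ := hquasi t htI
      exact ⟨ρ ∘ₗ K.subtype, h1, h2⟩
    | zero => exact ⟨0, fun x => by simp, fun y => by simp⟩
    | add c d _ _ hc hd =>
      obtain ⟨g, h1, h2⟩ := hc
      obtain ⟨g', h1', h2'⟩ := hd
      exact ⟨g + g', fun x => by simp [h1, h1', add_smul], fun y => by simp [h2, h2', add_smul]⟩
    | smul c d _ hd =>
      obtain ⟨g, h1, h2⟩ := hd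
      exact ⟨c • g, fun x => by simp [h1, mul_smul], fun y => by simp [h2, mul_smul]⟩

/-- The double dual agrees with the kernel after localising. -/
theorem exists_ddEquiv {C' : Type u} [CommRing C'] [IsNoetherianRing C'] (q' : Ideal C') [q'.IsPrime]
    (I' : Ideal C') {X K : Type u} [AddCommGroup X] [Module C' X] [Module.Finite C' X] [AddCommGroup K]
    [Module C' K] [Module.Finite C' K] (φ : X →ₗ[C'] K)
    (hφquasi : ∀ t ∈ I', ∃ g : K →ₗ[C'] X, (∀ x, g (φ x) = t • x) ∧ ∀ y, φ (g y) = t • y)
    (hKfac : I' ≤ factorIdeal K)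
    (hK1 : NoTors (I'.map (algebraMap C' (Localization.AtPrime q'))) (LocalizedModule q'.primeCompl K))
    (hK2 : Ext1 (I'.map (algebraMap C' (Localization.AtPrime q'))) (LocalizedModule q'.primeCompl K))
    (hdual : ∀ (Y : Type u) [AddCommGroup Y] [Module C' Y] [Module.Finite C' Y],
      NoTors (I'.map (algebraMap C' (Localization.AtPrime q'))) (LocalizedModule q'.primeCompl (Module.Dual C' Y)) ∧
      Ext1 (I'.map (algebraMap C' (Localization.AtPrime q'))) (LocalizedModule q'.primeCompl (Module.Dual C' Y))) :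
    Nonempty (LocalizedModule q'.primeCompl (Module.Dual C' (Module.Dual C' X)) ≃ₗ[Localization.AtPrime q']
      LocalizedModule q'.primeCompl K) := by
  haveI := QGorLib.Refl.finite_dual (A := C') X
  haveI := QGorLib.Refl.finite_dual (A := C') K
  let D := φ.dualMap.dualMap
  have hD : Function.Bijective (LocalizedModule.map q'.primeCompl D) := by
    refine bijective_localized q'.primeCompl I' D (fun t ht => ?_) (hdual _).1 (hdual _).2 (hdual _).1
    obtain ⟨g, h1, h2⟩ := hφquasi t ht
    exact ⟨g.dualMap.dualMap,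
      fun x => LinearMap.ext fun ψ => by
        show x ((ψ ∘ₗ g) ∘ₗ φ) = t • x ψ
        rw [show (ψ ∘ₗ g) ∘ₗ φ = t • ψ from LinearMap.ext fun z => by simp [h1], map_smul],
      fun y => LinearMap.ext fun ψ => by
        show y ((ψ ∘ₗ φ) ∘ₗ g) = t • y ψ
        rw [show (ψ ∘ₗ φ) ∘ₗ g = t • ψ from LinearMap.ext fun z => by simp [h2], map_smul]⟩
  have hev : Function.Bijective (LocalizedModule.map q'.primeCompl (Module.Dual.eval C' K)) :=
    bijective_localized q'.primeCompl I' _ (fun t ht => eval_quasiInverse (show Factors K t from hKfac ht))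
      hK1 hK2 (hdual _).1
  exact ⟨(LinearEquiv.ofBijective _ hD).trans (LinearEquiv.ofBijective _ hev).symm⟩

variable {R C : Type u} [CommRing R] [CommRing C] [IsLocalRing R] [IsNoetherianRing C] [Algebra R C]
  [Module.Flat R C] (n : Ideal C) [n.IsPrime] (J : Ideal C)
  {F : Type u} [AddCommGroup F] [Module C F] [Module.Finite C F]
  {a b : ℕ} (f : F →ₗ[C] (Fin a → C)) (u : (Fin a → C) →ₗ[C] (Fin b → C))

/-- After localising, the double dual of a base change is the kernel of the base changed resolution. -/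
theorem exists_ddKernelEquiv {A' C' : Type u} [CommRing A'] [CommRing C'] [IsLocalRing A'] [IsNoetherianRing A']
    [IsNoetherianRing C'] [Algebra R A'] [Algebra C C'] [Algebra A' C'] [Algebra R C'] [IsScalarTower R C C']
    [IsScalarTower R A' C'] [Algebra.IsPushout R C A' C'] [IsLocalHom (algebraMap R A')]
    (hn : n.comap (algebraMap R C) = maximalIdeal R)
    (h2 : 2 ≤ LocCoh.idealDepth (J.map (algebraMap C (EGA4.FibLocRing R C n))) (EGA4.FibLocRing R C n))
    (N : ℕ) (hf : Function.Injective f) (hfu : Function.Exact f u)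
    (hG : J ^ (N + 1) ≤ factorIdeal ((Fin b → C) ⧸ LinearMap.range u))
    (q' : Ideal C') [q'.IsPrime] (hq : q'.comap (algebraMap C C') = n)
    (hq' : q'.comap (algebraMap A' C') = maximalIdeal A') :
    Nonempty (LocalizedModule q'.primeCompl (Module.Dual C' (Module.Dual C' (C' ⊗[C] F))) ≃ₗ[Localization.AtPrime q']
      LocalizedModule q'.primeCompl (LinearMap.ker (u.baseChange C'))) := by
  classical
  let Sq := Localization.AtPrime q'
  haveI : IsLocalHom (algebraMap A' Sq) := ⟨fun x hx => by
    by_contra hxu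
    have hxm : algebraMap A' C' x ∈ q' := by
      show x ∈ q'.comap (algebraMap A' C')
      rw [hq']; exact hxu
    rw [IsScalarTower.algebraMap_apply A' C' Sq] at hx
    exact (IsLocalization.AtPrime.isUnit_to_map_iff Sq q' _).mp hx hxm⟩
  haveI : Module.Flat A' C' :=
    Module.Flat.isBaseChange R A' C C' (Algebra.IsPushout.symm (inferInstance : Algebra.IsPushout R C A' C')).out
  haveI : Module.Flat C' Sq := IsLocalization.flat Sq q'.primeCompl
  haveI : Module.Flat A' Sq := Module.Flat.trans A' C' Sq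
  let G := (Fin b → C) ⧸ LinearMap.range u
  let v := (LinearMap.range u).mkQ
  let L := fun (X : Type u) [AddCommGroup X] [Module C' X] => LocalizedModule q'.primeCompl X
  let Jq : Ideal Sq := (J.map (algebraMap C C')).map (algebraMap C' Sq)
  let Iq : Ideal Sq := ((J ^ (N + 1)).map (algebraMap C C')).map (algebraMap C' Sq)
  have hIq : Iq = Jq ^ (N + 1) := by rw [← Ideal.map_pow, ← Ideal.map_pow]
  have hΦ : 2 ≤ LocCoh.idealDepth Jq (EGA4.FibRing A' Sq) := two_le_fib_baseChange n J hn q' hq h2
  have hSq : 2 ≤ LocCoh.idealDepth Jq Sq :=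
    two_le_of_fib (hΦ.trans_eq (Depth.idealDepth_congr (Submodule.quotEquivOfEq _ _
      (by rw [Ideal.smul_eq_mul, Ideal.mul_top]))))
  obtain ⟨hB1, hB2⟩ : NoTors Iq Sq ∧ Ext1 Iq Sq :=
    of_idealDepth (hIq ▸ two_le_idealDepth_pow hSq (N + 1) (by omega))
  have hfree : ∀ (X : Type u) [AddCommGroup X] [Module C' X] [Module.Finite C' X] [Module.Projective C' X],
      NoTors Iq (L X) ∧ Ext1 Iq (L X) := by
    intro X _ _ _ _
    haveI : Module.Flat Sq (L X) := Module.Flat.of_linearEquiv (LocalizedModule.equivTensorProduct q'.primeCompl X)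
    haveI : Module.Finite Sq (L X) :=
      Module.Finite.of_isLocalizedModule q'.primeCompl (LocalizedModule.mkLinearMap q'.primeCompl X)
    haveI : Module.Free Sq (L X) := Module.free_of_flat_of_isLocalRing
    exact of_projective hB1 hB2 (L X)
  have hdual : ∀ (X : Type u) [AddCommGroup X] [Module C' X] [Module.Finite C' X],
      NoTors Iq (L (Module.Dual C' X)) ∧ Ext1 Iq (L (Module.Dual C' X)) := by
    intro X _ _ _
    obtain ⟨k, l, g, g', hg, hgg'⟩ := DomMod.HomDepth.exists_hom_exact (R := C') X C'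
    exact localized_kernel q'.primeCompl g g' hg hgg' (hfree _).1 (hfree _).2 (hfree _).1
  let E0 := C' ⊗[C] (Fin a → C)
  let E1 := C' ⊗[C] (Fin b → C)
  let u' : E0 →ₗ[C'] E1 := u.baseChange C'
  let v' : E1 →ₗ[C'] C' ⊗[C] G := v.baseChange C'
  let K := LinearMap.ker u'
  haveI : Module.Finite C' K := Module.Finite.iff_fg.mpr (IsNoetherian.noetherian _)
  obtain ⟨hK1, hK2⟩ : NoTors Iq (L K) ∧ Ext1 Iq (L K) :=
    localized_kernel q'.primeCompl K.subtype u' K.injective_subtype
      (LinearMap.exact_iff.mpr (Submodule.range_subtype K).symm) (hfree E0).1 (hfree E0).2 (hfree E1).1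
  let I' : Ideal C' := (J ^ (N + 1)).map (algebraMap C C')
  obtain ⟨hKfac, φ, hφquasi⟩ := exists_comparison (C' := C') f u hf hfu (J ^ (N + 1)) hG
  haveI : Module.Finite C' (C' ⊗[C] F) := Module.Finite.base_change C C' F
  let DX := Module.Dual C' (Module.Dual C' (C' ⊗[C] F))
  obtain ⟨ψ⟩ := exists_ddEquiv q' I' φ hφquasi hKfac hK1 hK2 hdual
  exact ⟨ψ⟩

/-- Flatness of the cokernel at a prime of a base change. -/
theorem core {A' C' : Type u} [CommRing A'] [CommRing C'] [IsLocalRing A'] [IsNoetherianRing A']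
    [IsNoetherianRing C'] [Algebra R A'] [Algebra C C'] [Algebra A' C'] [Algebra R C'] [IsScalarTower R C C']
    [IsScalarTower R A' C'] [Algebra.IsPushout R C A' C'] [IsLocalHom (algebraMap R A')]
    (hn : n.comap (algebraMap R C) = maximalIdeal R)
    (h2 : 2 ≤ LocCoh.idealDepth (J.map (algebraMap C (EGA4.FibLocRing R C n))) (EGA4.FibLocRing R C n))
    (N : ℕ) (hf : Function.Injective f) (hfu : Function.Exact f u)
    (hG : J ^ (N + 1) ≤ factorIdeal ((Fin b → C) ⧸ LinearMap.range u))
    (q' : Ideal C') [q'.IsPrime] (hq : q'.comap (algebraMap C C') = n)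
    (hq' : q'.comap (algebraMap A' C') = maximalIdeal A')
    (hDflat : FlatCA.FlatAt A' q' (Module.Dual C' (Module.Dual C' (C' ⊗[C] F))))
    (hDsk : LocCoh.HasSk 2 (EGA4.FibLocRing A' C' q')
      (EGA4.FibLocMod A' C' q' (Module.Dual C' (Module.Dual C' (C' ⊗[C] F))))) :
    FlatCA.FlatAt A' q' (C' ⊗[C] ((Fin b → C) ⧸ LinearMap.range u)) := by
  classical
  let Sq := Localization.AtPrime q'
  haveI : IsLocalHom (algebraMap A' Sq) := ⟨fun x hx => by
    by_contra hxu
    have hxm : algebraMap A' C' x ∈ q' := by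
      show x ∈ q'.comap (algebraMap A' C')
      rw [hq']; exact hxu
    rw [IsScalarTower.algebraMap_apply A' C' Sq] at hx
    exact (IsLocalization.AtPrime.isUnit_to_map_iff Sq q' _).mp hx hxm⟩
  haveI : Module.Flat A' C' :=
    Module.Flat.isBaseChange R A' C C' (Algebra.IsPushout.symm (inferInstance : Algebra.IsPushout R C A' C')).out
  haveI : Module.Flat C' Sq := IsLocalization.flat Sq q'.primeCompl
  haveI : Module.Flat A' Sq := Module.Flat.trans A' C' Sq
  let G := (Fin b → C) ⧸ LinearMap.range u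
  let v := (LinearMap.range u).mkQ
  let L := fun (X : Type u) [AddCommGroup X] [Module C' X] => LocalizedModule q'.primeCompl X
  let Jq : Ideal Sq := (J.map (algebraMap C C')).map (algebraMap C' Sq)
  let Iq : Ideal Sq := ((J ^ (N + 1)).map (algebraMap C C')).map (algebraMap C' Sq)
  have hIq : Iq = Jq ^ (N + 1) := by rw [← Ideal.map_pow, ← Ideal.map_pow]
  have hΦ : 2 ≤ LocCoh.idealDepth Jq (EGA4.FibRing A' Sq) := two_le_fib_baseChange n J hn q' hq h2
  have hSq : 2 ≤ LocCoh.idealDepth Jq Sq :=
    two_le_of_fib (hΦ.trans_eq (Depth.idealDepth_congr (Submodule.quotEquivOfEq _ _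
      (by rw [Ideal.smul_eq_mul, Ideal.mul_top]))))
  let E0 := C' ⊗[C] (Fin a → C)
  let E1 := C' ⊗[C] (Fin b → C)
  let u' : E0 →ₗ[C'] E1 := u.baseChange C'
  let v' : E1 →ₗ[C'] C' ⊗[C] G := v.baseChange C'
  let K := LinearMap.ker u'
  haveI : Module.Finite C' K := Module.Finite.iff_fg.mpr (IsNoetherian.noetherian _)
  let I' : Ideal C' := (J ^ (N + 1)).map (algebraMap C C')
  obtain ⟨hKfac, φ, hφquasi⟩ := exists_comparison (C' := C') f u hf hfu (J ^ (N + 1)) hG
  let DX := Module.Dual C' (Module.Dual C' (C' ⊗[C] F))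
  obtain ⟨ψ⟩ := exists_ddKernelEquiv n J f u hn h2 N hf hfu hG q' hq hq'
  haveI : Module.Flat A' (L DX) := hDflat
  haveI hKflat : Module.Flat A' (L K) := Module.Flat.of_linearEquiv ((ψ.symm.restrictScalars C').restrictScalars A')
  have hcm : (q'.comap (algebraMap A' C')).map (algebraMap A' Sq) = EGA4.mB A' Sq := by rw [hq', EGA4.mB]
  haveI : Module.Finite Sq (L K) :=
    Module.Finite.of_isLocalizedModule q'.primeCompl (LocalizedModule.mkLinearMap q'.primeCompl K)
  have hKfib : 2 ≤ LocCoh.idealDepth Jq (EGA4.FibMod A' Sq (L K)) := by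
    haveI : Module.Flat Sq (L E0) := Module.Flat.of_linearEquiv (LocalizedModule.equivTensorProduct q'.primeCompl E0)
    haveI : Module.Finite Sq (L E0) :=
      Module.Finite.of_isLocalizedModule q'.primeCompl (LocalizedModule.mkLinearMap q'.primeCompl E0)
    haveI : Module.Free Sq (L E0) := Module.free_of_flat_of_isLocalRing
    refine two_le_fib_of_hasSk hΦ
      ((Module.finBasis Sq (L E0)).equivFun.toLinearMap ∘ₗ LocalizedModule.map q'.primeCompl K.subtype)
      ((Module.finBasis Sq (L E0)).equivFun.injective.comp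
        (LocalizedModule.map_injective q'.primeCompl K.subtype K.injective_subtype)) N ?_ (hasSk_transfer ψ hcm hDsk)
    rw [← hIq]
    refine Ideal.map_le_iff_le_comap.mpr fun t ht => ?_
    obtain ⟨k, c, d, hcd⟩ := factors_baseChange Sq (show Factors K t from hKfac ht)
    let e := (LocalizedModule.equivTensorProduct q'.primeCompl K).symm
    exact ⟨k, c ∘ₗ e.symm.toLinearMap, e.toLinearMap ∘ₗ d, fun x => by
      show e (d (c (e.symm x))) = _
      rw [hcd, map_smul, e.apply_symm_apply]⟩
  -- the four term sequence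
  have hex : Function.Exact u' v' := by
    have := lTensor_exact C' (LinearMap.exact_map_mkQ_range u) (Submodule.mkQ_surjective _)
    exact fun z => this z
  have hsur : Function.Surjective v' := LinearMap.lTensor_surjective C' (Submodule.mkQ_surjective _)
  have hfibE : 1 ≤ LocCoh.idealDepth Jq (EGA4.FibMod A' Sq (L E0)) := by
    obtain ⟨r, ⟨e⟩⟩ := exists_fibEquiv A' q' E0
    rw [← Depth.idealDepth_congr e]
    exact (one_le_two.trans hΦ).trans (DomMod.HomDepth.le_idealDepth_pi _ _)
  haveI : Module.Flat A' (C' ⊗[C] (Fin a → C)) := Module.Flat.trans A' C' _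
  haveI : Module.Flat A' (C' ⊗[C] (Fin b → C)) := Module.Flat.trans A' C' _
  haveI : Module.Flat A' (L E0) := FlatMor.FlatAtBC.flat_localizedModule A' _ _
  haveI : Module.Flat A' (L E1) := FlatMor.FlatAtBC.flat_localizedModule A' _ _
  haveI : Module.Finite Sq (L E0) :=
    Module.Finite.of_isLocalizedModule q'.primeCompl (LocalizedModule.mkLinearMap q'.primeCompl E0)
  haveI : Module.Finite Sq (L E1) :=
    Module.Finite.of_isLocalizedModule q'.primeCompl (LocalizedModule.mkLinearMap q'.primeCompl E1)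
  haveI : Module.Finite Sq (L (C' ⊗[C] G)) :=
    Module.Finite.of_isLocalizedModule q'.primeCompl (LocalizedModule.mkLinearMap q'.primeCompl _)
  refine QGorLib.FourTermFlat.flat_right (A := A') (B := Sq) (J := Jq) (F := L K) (E0 := L E0) (E1 := L E1)
    (G := L (C' ⊗[C] G))
    (a := LocalizedModule.map q'.primeCompl K.subtype) (u := LocalizedModule.map q'.primeCompl u')
    (v := LocalizedModule.map q'.primeCompl v') (LocalizedModule.map_injective q'.primeCompl _ K.injective_subtype)
    (LocalizedModule.map_exact q'.primeCompl K.subtype u' (LinearMap.exact_iff.mpr (Submodule.range_subtype K).symm))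
    (LocalizedModule.map_exact q'.primeCompl u' v' hex) (LocalizedModule.map_surjective q'.primeCompl v' hsur) (fun Q hQ => ?_) hfibE hKfib
  obtain ⟨t, htJ, htQ⟩ : ∃ t ∈ I', algebraMap C' Sq t ∉ Q.asIdeal := by
    by_contra hcon
    push Not at hcon
    have hle : Iq ≤ Q.asIdeal := Ideal.map_le_iff_le_comap.mpr hcon
    rw [hIq] at hle
    exact hQ (Q.2.le_of_pow_le hle)
  have hGfac : I' ≤ factorIdeal (C' ⊗[C] G) :=
    Ideal.map_le_iff_le_comap.mpr fun s hs => factors_baseChange C' (hG hs)
  obtain ⟨k, c, d, hcd⟩ := factors_baseChange Sq (show Factors (C' ⊗[C] G) t from hGfac htJ)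
  let e := (LocalizedModule.equivTensorProduct q'.primeCompl (C' ⊗[C] G)).symm
  exact flatAt_of_factors (t := algebraMap C' Sq t) ⟨k, c ∘ₗ e.symm.toLinearMap, e.toLinearMap ∘ₗ d, fun x => by
    show e (d (c (e.symm x))) = _
    rw [hcd, map_smul, e.apply_symm_apply]⟩ Q.asIdeal htQ

/-- Flatness of the cokernel gives flatness of the module and `S₂` of its fibre. -/
theorem forward [IsNoetherianRing R] (hn : n.comap (algebraMap R C) = maximalIdeal R)
    (hS2 : LocCoh.HasSk 2 (EGA4.FibLocRing R C n) (EGA4.FibLocRing R C n))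
    [Module R F] [IsScalarTower R C F] (hf : Function.Injective f) (hfu : Function.Exact f u)
    (hG : FlatCA.FlatAt R n ((Fin b → C) ⧸ LinearMap.range u)) :
    FlatCA.FlatAt R n F ∧ LocCoh.HasSk 2 (EGA4.FibLocRing R C n) (EGA4.FibLocMod R C n F) := by
  let Sq := Localization.AtPrime n
  haveI : IsLocalHom (algebraMap R Sq) := ⟨fun x hx => by
    by_contra hxu
    have hxm : algebraMap R C x ∈ n := by
      show x ∈ n.comap (algebraMap R C)
      rw [hn]; exact hxu
    rw [IsScalarTower.algebraMap_apply R C Sq] at hx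
    exact (IsLocalization.AtPrime.isUnit_to_map_iff Sq n _).mp hx hxm⟩
  let L := fun (X : Type u) [AddCommGroup X] [Module C X] => LocalizedModule n.primeCompl X
  let v := (LinearMap.range u).mkQ
  haveI : Module.Flat R (L ((Fin b → C) ⧸ LinearMap.range u)) := hG
  haveI : Module.Flat R (Fin a → C) := Module.Flat.trans R C _
  haveI : Module.Flat R (Fin b → C) := Module.Flat.trans R C _
  haveI : Module.Flat R (L (Fin a → C)) := FlatMor.FlatAtBC.flat_localizedModule R _ _
  haveI : Module.Flat R (L (Fin b → C)) := FlatMor.FlatAtBC.flat_localizedModule R _ _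
  haveI : ∀ (X : Type u) [AddCommGroup X] [Module C X] [Module.Finite C X], Module.Finite Sq (L X) :=
    fun X _ _ _ => Module.Finite.of_isLocalizedModule n.primeCompl (LocalizedModule.mkLinearMap n.primeCompl X)
  obtain ⟨hF, hX⟩ := QGorLib.FourTermFlat.flat_left (A := R) (B := Sq)
    (a := LocalizedModule.map n.primeCompl f) (u := LocalizedModule.map n.primeCompl u)
    (v := LocalizedModule.map n.primeCompl v) (LocalizedModule.map_injective n.primeCompl f hf)
    (LocalizedModule.map_exact n.primeCompl f u hfu)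
    (LocalizedModule.map_exact n.primeCompl u v (LinearMap.exact_map_mkQ_range u))
    (LocalizedModule.map_surjective n.primeCompl v (Submodule.mkQ_surjective _))
  refine ⟨hF, ?_⟩
  obtain ⟨hi, he⟩ := hX (R ⧸ maximalIdeal R)
  obtain ⟨eF⟩ := QGorLib.FibInj.exists_tensorQuotEquiv (A := R) (B := Sq) (M := L F) (maximalIdeal R)
  obtain ⟨ea⟩ := QGorLib.FibInj.exists_tensorQuotEquiv (A := R) (B := Sq) (M := L (Fin a → C)) (maximalIdeal R)
  obtain ⟨eb⟩ := QGorLib.FibInj.exists_tensorQuotEquiv (A := R) (B := Sq) (M := L (Fin b → C)) (maximalIdeal R)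
  obtain ⟨ra, ⟨pa⟩⟩ := exists_fibEquiv R n (Fin a → C)
  obtain ⟨rb, ⟨pb⟩⟩ := exists_fibEquiv R n (Fin b → C)
  have hcm : (n.comap (algebraMap R C)).map (algebraMap R Sq) = EGA4.mB R Sq := by rw [hn, EGA4.mB]
  let Φ := EGA4.FibRing R Sq
  let fa := (AlgebraTensorModule.rTensor R (R ⧸ maximalIdeal R) (LocalizedModule.map n.primeCompl f))
  let ga := (AlgebraTensorModule.rTensor R (R ⧸ maximalIdeal R) (LocalizedModule.map n.primeCompl u))
  let F1 : EGA4.FibMod R Sq (L F) →ₗ[Sq] (Fin ra → Φ) :=
    (ea.trans pa.symm).toLinearMap ∘ₗ fa ∘ₗ eF.symm.toLinearMap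
  let G1 : (Fin ra → Φ) →ₗ[Sq] (Fin rb → Φ) :=
    (eb.trans pb.symm).toLinearMap ∘ₗ ga ∘ₗ (ea.trans pa.symm).symm.toLinearMap
  have hF1 : Function.Injective F1 := (ea.trans pa.symm).injective.comp (hi.comp eF.symm.injective)
  have hex : Function.Exact F1 G1 := fun w => by
    obtain ⟨y, rfl⟩ := (ea.trans pa.symm).surjective w
    simp only [G1, F1, LinearMap.coe_comp, LinearEquiv.coe_coe, Function.comp_apply,
      LinearEquiv.symm_apply_apply, LinearEquiv.map_eq_zero_iff, Set.range_comp, Set.mem_image]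
    rw [he y]
    constructor
    · rintro ⟨z, rfl⟩
      exact ⟨fa z, ⟨z, ⟨eF z, eF.symm_apply_apply z⟩, rfl⟩, rfl⟩
    · rintro ⟨y', ⟨z, -, rfl⟩, h⟩
      exact ⟨z, ((ea.trans pa.symm).injective h)⟩
  refine hasSk_transfer (LinearEquiv.refl _ _) hcm.symm ?_
  exact DomMod.HomDepth.hasSk_kernel (R := Φ) (F1.extendScalarsOfSurjective (S := Φ) Ideal.Quotient.mk_surjective)
    (G1.extendScalarsOfSurjective (S := Φ) Ideal.Quotient.mk_surjective) hF1 hex le_rfl
    (hasSk_self_transfer hcm hS2)

/-- Flatness of the cokernel gives back flatness and `S₂` of the double dual. -/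
theorem core_converse {A' C' : Type u} [CommRing A'] [CommRing C'] [IsLocalRing A'] [IsNoetherianRing A']
    [IsNoetherianRing C'] [Algebra R A'] [Algebra C C'] [Algebra A' C'] [Algebra R C'] [IsScalarTower R C C']
    [IsScalarTower R A' C'] [Algebra.IsPushout R C A' C'] [IsLocalHom (algebraMap R A')]
    (hn : n.comap (algebraMap R C) = maximalIdeal R)
    (h2 : 2 ≤ LocCoh.idealDepth (J.map (algebraMap C (EGA4.FibLocRing R C n))) (EGA4.FibLocRing R C n))
    (N : ℕ) (hf : Function.Injective f) (hfu : Function.Exact f u)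
    (hG : J ^ (N + 1) ≤ factorIdeal ((Fin b → C) ⧸ LinearMap.range u))
    (q' : Ideal C') [q'.IsPrime] (hq : q'.comap (algebraMap C C') = n)
    (hq' : q'.comap (algebraMap A' C') = maximalIdeal A')
    (hS2 : LocCoh.HasSk 2 (EGA4.FibLocRing A' C' q') (EGA4.FibLocRing A' C' q'))
    (hflat : FlatCA.FlatAt A' q' (C' ⊗[C] ((Fin b → C) ⧸ LinearMap.range u))) :
    FlatCA.FlatAt A' q' (Module.Dual C' (Module.Dual C' (C' ⊗[C] F))) ∧
    LocCoh.HasSk 2 (EGA4.FibLocRing A' C' q')
      (EGA4.FibLocMod A' C' q' (Module.Dual C' (Module.Dual C' (C' ⊗[C] F)))) := by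
  classical
  haveI : Module.Flat A' C' :=
    Module.Flat.isBaseChange R A' C C' (Algebra.IsPushout.symm (inferInstance : Algebra.IsPushout R C A' C')).out
  obtain ⟨ψ⟩ := exists_ddKernelEquiv n J f u hn h2 N hf hfu hG q' hq hq'
  let u' := u.baseChange C'
  let K := LinearMap.ker u'
  haveI : Module.Finite C' K := Module.Finite.iff_fg.mpr (IsNoetherian.noetherian _)
  let ea := TensorProduct.piScalarRight C C' C' (Fin a)
  let eb := TensorProduct.piScalarRight C C' C' (Fin b)
  let u'' : (Fin a → C') →ₗ[C'] (Fin b → C') := eb.toLinearMap ∘ₗ u' ∘ₗ ea.symm.toLinearMap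
  let f'' : K →ₗ[C'] (Fin a → C') := ea.toLinearMap ∘ₗ K.subtype
  have hex'' : Function.Exact f'' u'' := fun w => by
    obtain ⟨w, rfl⟩ := ea.surjective w
    show eb (u' (ea.symm (ea w))) = 0 ↔ _
    rw [ea.symm_apply_apply, eb.map_eq_zero_iff]
    constructor
    · intro h; exact ⟨⟨w, h⟩, rfl⟩
    · rintro ⟨x, hx⟩
      rw [← ea.injective hx]
      exact x.2
  let v' := (LinearMap.range u).mkQ.baseChange C'
  have hex : Function.Exact u' v' := by
    have := lTensor_exact C' (LinearMap.exact_map_mkQ_range u) (Submodule.mkQ_surjective _)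
    exact fun z => this z
  have hsur : Function.Surjective v' := LinearMap.lTensor_surjective C' (Submodule.mkQ_surjective _)
  let e : (C' ⊗[C] ((Fin b → C) ⧸ LinearMap.range u)) ≃ₗ[C'] (Fin b → C') ⧸ LinearMap.range u'' :=
    (hex.linearEquivOfSurjective hsur).symm.trans (Submodule.Quotient.equiv _ _ eb (by
      show Submodule.map eb.toLinearMap (LinearMap.range u') = _
      rw [← LinearMap.range_comp]
      exact (LinearEquiv.range_comp ea.symm (eb.toLinearMap ∘ₗ u')).symm))
  have hflat' : FlatCA.FlatAt A' q' ((Fin b → C') ⧸ LinearMap.range u'') := by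
    haveI : Module.Flat A' (LocalizedModule q'.primeCompl (C' ⊗[C] ((Fin b → C) ⧸ LinearMap.range u))) := hflat
    exact Module.Flat.of_linearEquiv (((IsLocalizedModule.mapEquiv q'.primeCompl
      (LocalizedModule.mkLinearMap q'.primeCompl _) (LocalizedModule.mkLinearMap q'.primeCompl _)
      (Localization.AtPrime q') e).symm.restrictScalars C').restrictScalars A')
  obtain ⟨h1, hsk⟩ := forward (R := A') (C := C') (F := K) q' f'' u'' hq' hS2 (ea.injective.comp K.injective_subtype) hex'' hflat'
  haveI : Module.Flat A' (LocalizedModule q'.primeCompl K) := h1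
  exact ⟨Module.Flat.of_linearEquiv ((ψ.restrictScalars C').restrictScalars A'), hasSk_transfer ψ.symm rfl hsk⟩

end Groth.Agent.S2Crit6
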