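import Groth.Agent.S2694
import Groth.Agent.Omega.SmoothSerre
import Groth.Prelude.Def_EGA4b
import Mathlib.RingTheory.Localization.Ideal
import Mathlib.RingTheory.TensorProduct.Quotient
import Mathlib.RingTheory.IsTensorProduct
import Mathlib.RingTheory.FiniteType

/-!
Serre's condition `S_k` on fibre local rings under extension of the base field.
-/

set_option autoImplicit false
set_option linter.style.haveILetI false
set_option maxHeartbeats 800000
set_option synthInstance.maxHeartbeats 200000

universe u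

open TensorProduct IsLocalRing

namespace Groth.Agent.S2Crit6

/-- A local ring of a quotient ring is the quotient of the local ring. -/
theorem exists_locQuotEquiv {B : Type u} [CommRing B] (I : Ideal B) (P : Ideal (B ⧸ I)) [P.IsPrime]
    (q : Ideal B) [q.IsPrime] (hq : P.comap (Ideal.Quotient.mk I) = q) :
    Nonempty (Localization.AtPrime P ≃+*
      (Localization.AtPrime q ⧸ I.map (algebraMap B (Localization.AtPrime q)))) := by
  have hsub : Algebra.algebraMapSubmonoid (B ⧸ I) q.primeCompl = P.primeCompl := by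
    ext y
    constructor
    · rintro ⟨x, hx, rfl⟩ hy
      exact hx (by rw [← hq]; exact hy)
    · intro hy
      obtain ⟨x, rfl⟩ := Ideal.Quotient.mk_surjective y
      exact ⟨x, fun hx => hy (by rw [← hq] at hx; exact hx), rfl⟩
  haveI h : IsLocalization P.primeCompl
      (Localization.AtPrime q ⧸ I.map (algebraMap B (Localization.AtPrime q))) := hsub ▸ inferInstance
  exact ⟨(IsLocalization.algEquiv P.primeCompl (Localization.AtPrime P) _).toRingEquiv⟩

theorem hasSk_quot_congr {B : Type u} [CommRing B] {a b : Ideal B} (h : a = b) {k : ℕ}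
    (hk : LocCoh.HasSk k (B ⧸ a) (B ⧸ a)) : LocCoh.HasSk k (B ⧸ b) (B ⧸ b) := by subst h; exact hk

/-- `S_k` of the closed fibre is `S_k` at all its local rings. -/
theorem hasSk_closedFibre {R C : Type u} [CommRing R] [CommRing C] [IsLocalRing R] [IsNoetherianRing C]
    [Algebra R C] (k : ℕ)
    (hS : ∀ q : PrimeSpectrum C, LocCoh.HasSk k (EGA4.FibLocRing R C q.asIdeal) (EGA4.FibLocRing R C q.asIdeal)) :
    LocCoh.HasSk k (C ⧸ (maximalIdeal R).map (algebraMap R C)) (C ⧸ (maximalIdeal R).map (algebraMap R C)) := by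
  rw [EGA4Lib.hasSk_iff_forall_hasSkAt]
  intro P _
  let q : PrimeSpectrum C := ⟨P.comap (Ideal.Quotient.mk _), Ideal.IsPrime.comap _⟩
  obtain ⟨e⟩ := exists_locQuotEquiv _ P q.asIdeal rfl
  rw [← Omega.SmoothSerre.hasSk_atPrime_iff]
  refine Omega.SmoothSerre.hasSk_ringEquiv e.symm k (hasSk_quot_congr ?_ (hS q))
  have hqm : q.asIdeal.comap (algebraMap R C) = maximalIdeal R := by
    refine le_antisymm (le_maximalIdeal (Ideal.IsPrime.comap _).ne_top) fun r hr => ?_
    show Ideal.Quotient.mk _ (algebraMap R C r) ∈ P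
    rw [Ideal.Quotient.eq_zero_iff_mem.mpr (Ideal.mem_map_of_mem _ hr)]
    exact zero_mem _
  rw [hqm, Ideal.map_map, ← IsScalarTower.algebraMap_eq]

/-- `S_k` passes to closed fibres of base changes along local homomorphisms. -/
theorem hasSk_fib_baseChange {R C A' C' : Type u} [CommRing R] [CommRing C] [IsLocalRing R] [IsNoetherianRing C]
    [Algebra R C] [Algebra.FiniteType R C] [CommRing A'] [CommRing C'] [IsLocalRing A'] [IsNoetherianRing C']
    [Algebra R A'] [Algebra C C'] [Algebra A' C'] [Algebra R C'] [IsScalarTower R C C'] [IsScalarTower R A' C']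
    [Algebra.IsPushout R C A' C'] [IsLocalHom (algebraMap R A')] (k : ℕ) (hk : 1 ≤ k)
    (hS : ∀ q : PrimeSpectrum C, LocCoh.HasSk k (EGA4.FibLocRing R C q.asIdeal) (EGA4.FibLocRing R C q.asIdeal))
    (q' : Ideal C') [q'.IsPrime] (hq' : q'.comap (algebraMap A' C') = maximalIdeal A') :
    LocCoh.HasSk k (EGA4.FibLocRing A' C' q') (EGA4.FibLocRing A' C' q') := by
  let κ := R ⧸ maximalIdeal R
  let κ' := A' ⧸ maximalIdeal A'
  letI : Field κ := Ideal.Quotient.field _
  letI : Field κ' := Ideal.Quotient.field _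
  letI : Algebra κ κ' := Ideal.Quotient.algebraQuotientOfLEComap
    (Ideal.map_le_iff_le_comap.mp (IsLocalRing.map_maximalIdeal_le (algebraMap R A')))
  haveI : IsScalarTower R κ κ' := IsScalarTower.of_algebraMap_eq fun _ => rfl
  let S := κ ⊗[R] C
  haveI : IsNoetherianRing S := Algebra.FiniteType.isNoetherianRing κ S
  haveI : IsNoetherianRing (S ⊗[κ] κ') := by
    haveI : IsNoetherianRing (κ' ⊗[κ] S) := Algebra.FiniteType.isNoetherianRing κ' (κ' ⊗[κ] S)
    exact isNoetherianRing_of_ringEquiv _ (Algebra.TensorProduct.comm κ κ' S).toRingEquiv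
  have hSS : LocCoh.HasSk k S S := Omega.SmoothSerre.hasSk_ringEquiv
    ((Algebra.TensorProduct.quotIdealMapEquivTensorQuot C (maximalIdeal R)).toRingEquiv.trans
      (Algebra.TensorProduct.comm R C κ).toRingEquiv) k (hasSk_closedFibre k hS)
  have hκ' : LocCoh.HasSk k κ' κ' := fun p _ => by
    refine le_trans (min_le_right _ _) ?_
    refine (Module.supportDim_le_ringKrullDim _ _).trans ?_
    refine le_trans ?_ (WithBot.coe_le_coe.mpr (zero_le (a := LocCoh.depth _ _)))
    rw [IsLocalization.AtPrime.ringKrullDim_eq_height p, Ideal.eq_bot_of_prime p, Ideal.height_bot]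
  have h := S2694.result k κ S κ' (Or.inl inferInstance) hSS hκ'
  let e : (S ⊗[κ] κ') ≃+* C' ⧸ (maximalIdeal A').map (algebraMap A' C') :=
    (Algebra.TensorProduct.comm κ S κ').toRingEquiv.trans
      ((Algebra.TensorProduct.cancelBaseChange R κ κ' κ' C).toRingEquiv.trans
        ((Algebra.TensorProduct.comm R κ' C).toRingEquiv.trans
          ((Algebra.IsPushout.cancelBaseChangeAlg R C A' C' κ').symm.toRingEquiv.trans
            (Algebra.TensorProduct.quotIdealMapEquivTensorQuot C' (maximalIdeal A')).symm.toRingEquiv)))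
  have hT := Omega.SmoothSerre.hasSk_ringEquiv e k h
  let I' := (maximalIdeal A').map (algebraMap A' C')
  let P := q'.map (Ideal.Quotient.mk I')
  have hker : RingHom.ker (Ideal.Quotient.mk I') ≤ q' := by
    rw [Ideal.mk_ker]
    exact Ideal.map_le_iff_le_comap.mpr hq'.ge
  haveI : P.IsPrime := Ideal.map_isPrime_of_surjective Ideal.Quotient.mk_surjective hker
  have hP : P.comap (Ideal.Quotient.mk I') = q' := by
    rw [Ideal.comap_map_of_surjective _ Ideal.Quotient.mk_surjective, ← RingHom.ker_eq_comap_bot,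
      sup_eq_left.mpr hker]
  obtain ⟨e'⟩ := exists_locQuotEquiv I' P q' hP
  refine hasSk_quot_congr ?_ (Omega.SmoothSerre.hasSk_ringEquiv e' k
    ((Omega.SmoothSerre.hasSk_atPrime_iff k P).mpr ((EGA4Lib.hasSk_iff_forall_hasSkAt _ k).mp hT P)))
  rw [hq', Ideal.map_map, ← IsScalarTower.algebraMap_eq]

end Groth.Agent.S2Crit6
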