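import Groth.Agent.ExtOff6.More
import Groth.Agent.QGorLib.FibInj
import Groth.Agent.Depth.CM
import Groth.Agent.FlatMor.FlatAtBC
import Mathlib.RingTheory.Filtration
import Mathlib.RingTheory.TensorProduct.Quotient
import Mathlib.LinearAlgebra.Matrix.Adjugate

/-!
Depth along an ideal: lifting from the closed fibre, and the depth two criterion from Serre's `S₂` for modules
which are projective off the ideal.
-/

set_option autoImplicit false
set_option linter.style.haveILetI false
set_option maxHeartbeats 800000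

universe u

open TensorProduct IsLocalRing
open scoped Pointwise

namespace Groth.Agent.S2Crit6

open ExtOff6

variable {A B : Type u} [CommRing A] [CommRing B] [Algebra A B] [IsLocalRing A] [IsLocalRing B]
  [IsLocalHom (algebraMap A B)] [IsNoetherianRing A] [IsNoetherianRing B]

/-- An element regular on the closed fibre of a flat module is regular on the module. -/
theorem isSMulRegular_of_fib {M : Type u} [AddCommGroup M] [Module B M] [Module A M] [IsScalarTower A B M]
    [Module.Finite B M] [Module.Flat A M] {x : B} (hx : IsSMulRegular (EGA4.FibMod A B M) x) :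
    IsSMulRegular M x := by
  have hU : ∀ (q : Ideal B) [q.IsPrime], x ∉ q → FlatCA.FlatAt A q M := fun q _ _ =>
    FlatMor.FlatAtBC.flat_localizedModule A q.primeCompl M
  have hkill : ∀ n : ℕ, maximalIdeal A ^ n • (⊤ : Submodule A (A ⧸ maximalIdeal A ^ n)) = ⊥ := fun n => by
    rw [eq_bot_iff, Submodule.smul_le]
    intro r hr y _
    obtain ⟨y, rfl⟩ := Ideal.Quotient.mk_surjective y
    rw [Submodule.mem_bot, Algebra.smul_def, Ideal.Quotient.algebraMap_eq, ← map_mul]
    exact Ideal.Quotient.eq_zero_iff_mem.mpr (Ideal.mul_mem_right _ _ hr)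
  let a : Ideal B := (maximalIdeal A).map (algebraMap A B)
  have ha : a ≤ maximalIdeal B := IsLocalRing.map_maximalIdeal_le (algebraMap A B)
  have hne : a ≠ ⊤ := fun h => (maximalIdeal.isMaximal B).ne_top (top_le_iff.mp (h ▸ ha))
  intro y z hyz
  rw [← sub_eq_zero, ← Submodule.mem_bot B, ← Ideal.iInf_pow_smul_eq_bot_of_isLocalRing a hne (M := M),
    Submodule.mem_iInf]
  intro n
  obtain ⟨e⟩ := QGorLib.FibInj.exists_tensorQuotEquiv (A := A) (B := B) (M := M) (maximalIdeal A ^ n)
  rw [Ideal.map_pow] at e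
  rw [← Submodule.Quotient.mk_eq_zero]
  apply e.symm.injective
  refine QGorLib.FibInj.isSMulRegular_tensor hU hx n _ (hkill n) ?_
  show x • e.symm (Submodule.Quotient.mk (y - z)) = x • e.symm 0
  rw [← map_smul, ← map_smul, ← Submodule.Quotient.mk_smul, smul_sub, show x • y = x • z from hyz, sub_self,
    smul_zero, Submodule.Quotient.mk_zero]

/-- Depth two along `J` lifts from the closed fibre of a flat module. -/
theorem two_le_of_fib {M : Type u} [AddCommGroup M] [Module B M] [Module A M] [IsScalarTower A B M]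
    [Module.Finite B M] [Module.Flat A M] {J : Ideal B} (h2 : 2 ≤ LocCoh.idealDepth J (EGA4.FibMod A B M)) :
    2 ≤ LocCoh.idealDepth J M := by
  obtain ⟨x, hxJ, hx⟩ := Depth.exists_isSMulRegular_of_one_le_idealDepth (one_le_two.trans h2)
  have hU : ∀ (q : Ideal B) [q.IsPrime], x ∉ q → FlatCA.FlatAt A q M := fun q _ _ =>
    FlatMor.FlatAtBC.flat_localizedModule A q.primeCompl M
  have hkill : ∀ n : ℕ, maximalIdeal A ^ n • (⊤ : Submodule A (A ⧸ maximalIdeal A ^ n)) = ⊥ := fun n => by
    rw [eq_bot_iff, Submodule.smul_le]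
    intro r hr y _
    obtain ⟨y, rfl⟩ := Ideal.Quotient.mk_surjective y
    rw [Submodule.mem_bot, Algebra.smul_def, Ideal.Quotient.algebraMap_eq, ← map_mul]
    exact Ideal.Quotient.eq_zero_iff_mem.mpr (Ideal.mul_mem_right _ _ hr)
  let a : Ideal B := (maximalIdeal A).map (algebraMap A B)
  have ha : a ≤ maximalIdeal B := IsLocalRing.map_maximalIdeal_le (algebraMap A B)
  have hne : a ≠ ⊤ := fun h => (maximalIdeal.isMaximal B).ne_top (top_le_iff.mp (h ▸ ha))
  have hreg : ∀ n : ℕ, IsSMulRegular (M ⧸ (a ^ n • (⊤ : Submodule B M))) x ∧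
      2 ≤ LocCoh.idealDepth J (M ⧸ (a ^ n • (⊤ : Submodule B M))) := fun n => by
    obtain ⟨e⟩ := QGorLib.FibInj.exists_tensorQuotEquiv (A := A) (B := B) (M := M) (maximalIdeal A ^ n)
    rw [Ideal.map_pow] at e
    refine ⟨?_, ?_⟩
    · intro y z hyz
      apply e.symm.injective
      refine QGorLib.FibInj.isSMulRegular_tensor hU hx n _ (hkill n) ?_
      show x • e.symm y = x • e.symm z
      rw [← map_smul, ← map_smul]
      exact congrArg e.symm hyz
    · rw [← Depth.idealDepth_congr e]
      exact QGorLib.FibInj.two_le_depth_tensor J h2 n _ (hkill n)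
  have hsep : ∀ {N : Type u} [AddCommGroup N] [Module B N] [Module.Finite B N] (y : N),
      (∀ n : ℕ, y ∈ a ^ n • (⊤ : Submodule B N)) → y = 0 := fun {N} _ _ _ y hy => by
    have h := Ideal.iInf_pow_smul_eq_bot_of_isLocalRing a hne (M := N)
    rw [← Submodule.mem_bot B, ← h, Submodule.mem_iInf]
    exact hy
  have hxM : IsSMulRegular M x := fun y z hyz => sub_eq_zero.mp <| hsep _ fun n => by
    rw [← Submodule.Quotient.mk_eq_zero]
    refine (hreg n).1 ?_
    show x • Submodule.Quotient.mk (y - z) = x • (0 : M ⧸ _)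
    rw [← Submodule.Quotient.mk_smul, smul_sub, show x • y = x • z from hyz, sub_self, smul_zero,
      Submodule.Quotient.mk_zero]
  refine (Depth.le_idealDepth_quotSMulTop_iff hxJ hxM 1).mp ?_
  show (1 : ℕ∞) ≤ _
  refine Depth.one_le_idealDepth_iff.mpr fun q hq hle => ?_
  obtain ⟨hp, z, hz⟩ := isAssociatedPrime_iff.mp hq
  refine hp.ne_top ?_
  suffices z = 0 by rw [hz, this]; simp
  refine hsep z fun n => ?_
  obtain ⟨y, rfl⟩ := Submodule.mkQ_surjective _ z
  let P := M ⧸ (a ^ n • (⊤ : Submodule B M))
  obtain ⟨r, hrJ, hr⟩ := Depth.exists_isSMulRegular_of_one_le_idealDepth (I := J) (M := QuotSMulTop x P)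
    ((Depth.le_idealDepth_quotSMulTop_iff hxJ (hreg n).1 1).mpr (hreg n).2)
  have hry : r • y ∈ x • (⊤ : Submodule B M) := by
    have := hle hrJ
    rw [hz, Submodule.mem_colon_singleton, Submodule.mem_bot, ← map_smul, Submodule.mkQ_apply,
      Submodule.Quotient.mk_eq_zero] at this
    exact this
  rw [Submodule.mem_smul_pointwise_iff_exists] at hry
  obtain ⟨c, -, hc⟩ := hry
  have h0 : (Submodule.Quotient.mk (Submodule.Quotient.mk y : P) : QuotSMulTop x P) = 0 := by
    refine hr ?_
    show r • _ = r • (0 : QuotSMulTop x P)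
    rw [smul_zero, ← Submodule.Quotient.mk_smul, ← Submodule.Quotient.mk_smul, Submodule.Quotient.mk_eq_zero,
      Submodule.mem_smul_pointwise_iff_exists]
    exact ⟨Submodule.Quotient.mk c, trivial, by rw [← Submodule.Quotient.mk_smul, hc]⟩
  rw [Submodule.Quotient.mk_eq_zero, Submodule.mem_smul_pointwise_iff_exists] at h0
  obtain ⟨d, -, hd⟩ := h0
  obtain ⟨d, rfl⟩ := Submodule.mkQ_surjective _ d
  rw [Submodule.mkQ_apply, ← Submodule.Quotient.mk_smul, Submodule.Quotient.eq] at hd
  have hy : y = x • d - (x • d - y) := by abel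
  rw [hy, map_sub, show (Submodule.mkQ (x • (⊤ : Submodule B M))) (x • d) = 0 from
    (Submodule.Quotient.mk_eq_zero _).mpr (Submodule.smul_mem_pointwise_smul _ _ _ trivial), zero_sub,
    neg_mem_iff]
  have := Submodule.mem_map_of_mem (f := Submodule.mkQ (x • (⊤ : Submodule B M))) hd
  rw [Submodule.map_smul'', Submodule.map_top, Submodule.range_mkQ] at this
  exact this

omit [IsLocalRing B] in
theorem two_le_idealDepth_pow {M : Type u} [AddCommGroup M] [Module B M] [Module.Finite B M] {J : Ideal B}
    (h : 2 ≤ LocCoh.idealDepth J M) (n : ℕ) (hn : n ≠ 0) : 2 ≤ LocCoh.idealDepth (J ^ n) M := by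
  rw [Depth.idealDepth_eq_iInf_depth]
  refine le_iInf₂ fun q hq => ?_
  exact h.trans (Depth.idealDepth_le_depth_localizedModule q.asIdeal
    (q.2.le_of_pow_le (n := n) hq))

/-- For a module with depth two which is projective off `V(J)`, Serre's condition on the closed fibre gives
depth two along `J` of the closed fibre. -/
theorem two_le_fib_of_hasSk {K : Type u} [AddCommGroup K] [Module B K] [Module A K] [IsScalarTower A B K]
    [Module.Finite B K] [Module.Flat A B] {J : Ideal B} (hΦ : 2 ≤ LocCoh.idealDepth J (EGA4.FibRing A B))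
    {r : ℕ} (ι : K →ₗ[B] (Fin r → B)) (hι : Function.Injective ι) (N : ℕ) (hfac : J ^ (N + 1) ≤ factorIdeal K)
    (hsk : LocCoh.HasSk 2 (EGA4.FibRing A B) (EGA4.FibMod A B K)) :
    2 ≤ LocCoh.idealDepth J (EGA4.FibMod A B K) := by
  classical
  let Φ := EGA4.FibRing A B
  let mb := EGA4.mB A B
  have hsurj : Function.Surjective (algebraMap B Φ) := Ideal.Quotient.mk_surjective
  rw [← Depth.idealDepth_map_of_surjective hsurj J, Depth.idealDepth_eq_iInf_depth]
  refine le_iInf₂ fun P hP => ?_
  let M := EGA4.FibMod A B K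
  let MP := LocalizedModule P.asIdeal.primeCompl M
  by_cases hsub : Subsingleton MP
  · show (2 : ℕ∞) ≤ LocCoh.idealDepth _ _
    rw [Depth.idealDepth_eq_top_of_subsingleton]
    exact le_top
  suffices h : ((2 : ℕ) : WithBot ℕ∞) ≤ Module.supportDim (Localization.AtPrime P.asIdeal) MP by
    have h' := hsk P.asIdeal
    rw [min_eq_left h] at h'
    exact WithBot.coe_le_coe.mp h'
  by_cases hfun : ∃ (φ : K →ₗ[B] B) (x : K),
      LocalizedModule.mkLinearMap P.asIdeal.primeCompl Φ (Ideal.Quotient.mk mb (φ x)) ≠ 0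
  · obtain ⟨φ, x, hφ⟩ := hfun
    have hle : mb • (⊤ : Submodule B K) ≤ Submodule.comap φ mb :=
      Submodule.smul_le.mpr fun r hr y _ => by
        rw [Submodule.mem_comap, map_smul, smul_eq_mul]
        exact Ideal.mul_mem_right _ _ hr
    let φb : M →ₗ[Φ] Φ :=
      (Submodule.mapQ (mb • (⊤ : Submodule B K)) mb φ hle).extendScalarsOfSurjective hsurj
    let φP := LocalizedModule.map P.asIdeal.primeCompl φb
    let x' : MP := LocalizedModule.mkLinearMap P.asIdeal.primeCompl M (Submodule.Quotient.mk x)
    have hy : φP x' ≠ 0 := by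
      simp only [φP, x', φb, LocalizedModule.mkLinearMap_apply, LocalizedModule.map_mk] at hφ ⊢
      exact hφ
    obtain ⟨P0, hP0, hcol⟩ := exists_le_isAssociatedPrime_of_isNoetherianRing
      (Localization.AtPrime P.asIdeal) (φP x') hy
    have h2 : (2 : ℕ∞) ≤ LocCoh.depth (Localization.AtPrime P.asIdeal) (LocalizedModule P.asIdeal.primeCompl Φ) :=
      (hΦ.trans_eq (Depth.idealDepth_map_of_surjective hsurj J).symm).trans
        (Depth.idealDepth_le_depth_localizedModule P.asIdeal hP)
    have hann : Module.annihilator (Localization.AtPrime P.asIdeal) MP ≤ P0 := fun r hr => hcol (by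
      rw [Submodule.mem_colon_singleton, Submodule.mem_bot, ← map_smul,
        Module.mem_annihilator.mp hr x', map_zero])
    rw [Module.supportDim_eq_ringKrullDim_quotient_annihilator]
    exact ((WithBot.coe_le_coe.mpr h2).trans (Depth.depth_le_ringKrullDim_quotient hP0)).trans
      (Depth.le_ringKrullDim_quotient_of_le hann)
  · exfalso
    push Not at hfun
    let Q : Ideal B := P.asIdeal.comap (algebraMap B Φ)
    haveI : Q.IsPrime := Ideal.IsPrime.comap _
    -- every element of `J ^ (N + 1)` is nilpotent at `Q` modulo the annihilator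
    have hpow : ∀ t ∈ J ^ (N + 1), ∃ s ∉ Q, ∃ k : ℕ,
        s ^ k * t ^ (k + 1) ∈ Module.annihilator B K ⊔ mb := by
      intro t ht
      obtain ⟨k, a, b, hab⟩ := hfac ht
      let E : Matrix (Fin k) (Fin k) B := LinearMap.toMatrix' (a ∘ₗ b)
      have hs : ∀ i j, ∃ s ∉ Q, s * E i j ∈ mb := fun i j => by
        obtain ⟨c, hc⟩ := (IsLocalizedModule.eq_zero_iff P.asIdeal.primeCompl _).mp
          (hfun (LinearMap.proj i ∘ₗ a) (b (Pi.single j 1)))
        obtain ⟨s, hs⟩ := Ideal.Quotient.mk_surjective (c : Φ)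
        refine ⟨s, fun h => c.2 (hs ▸ h), ?_⟩
        rw [show E i j = a (b (Pi.single j 1)) i by simp [E, LinearMap.toMatrix'_apply],
          ← Ideal.Quotient.eq_zero_iff_mem, map_mul, hs]
        exact hc
      choose σ hσ hσm using hs
      let s := ∏ p : Fin k × Fin k, σ p.1 p.2
      have hsQ : s ∉ Q := fun h => by
        obtain ⟨p, -, hp⟩ := (inferInstance : Q.IsPrime).prod_mem_iff.mp h
        exact hσ _ _ hp
      have hsE : ∀ i j, s * E i j ∈ mb := fun i j => by
        show (∏ p : Fin k × Fin k, σ p.1 p.2) * E i j ∈ mb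
        rw [← Finset.prod_erase_mul Finset.univ _ (Finset.mem_univ (i, j)), mul_assoc]
        exact Ideal.mul_mem_left _ _ (hσm i j)
      let D : Matrix (Fin k) (Fin k) B := s • (t • (1 : Matrix (Fin k) (Fin k) B) - E)
      have hEa : ∀ x, Matrix.mulVec E (a x) = t • a x := fun x => by
        rw [LinearMap.toMatrix'_mulVec, LinearMap.comp_apply, hab, map_smul]
      have hD : ∀ x, Matrix.mulVec D (a x) = 0 := fun x => by
        show Matrix.mulVec (s • (t • (1 : Matrix (Fin k) (Fin k) B) - E)) (a x) = 0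
        rw [Matrix.smul_mulVec, Matrix.sub_mulVec, Matrix.smul_mulVec, Matrix.one_mulVec, hEa, sub_self,
          smul_zero]
      have hann : D.det * t ∈ Module.annihilator B K := Module.mem_annihilator.mpr fun x => by
        have h0 : D.det • a x = 0 := by
          have h := congrArg (Matrix.mulVec D.adjugate) (hD x)
          rw [Matrix.mulVec_mulVec, Matrix.adjugate_mul, Matrix.smul_mulVec, Matrix.one_mulVec,
            Matrix.mulVec_zero] at h
          exact h
        rw [mul_smul, ← hab x, ← map_smul, h0, map_zero]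
      refine ⟨s, hsQ, k, ?_⟩
      have hdet : D.det - (s * t) ^ k ∈ mb := by
        rw [← Ideal.Quotient.eq_zero_iff_mem, map_sub, sub_eq_zero, RingHom.map_det]
        have : (Ideal.Quotient.mk mb).mapMatrix D =
            Ideal.Quotient.mk mb (s * t) • (1 : Matrix (Fin k) (Fin k) (B ⧸ mb)) := by
          ext i j
          show Ideal.Quotient.mk mb (s * (t * (1 : Matrix (Fin k) (Fin k) B) i j - E i j)) = _
          rw [mul_sub, map_sub, Ideal.Quotient.eq_zero_iff_mem.mpr (hsE i j), sub_zero, Matrix.smul_apply,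
            smul_eq_mul, ← mul_assoc, map_mul]
          congr 1
          simp [Matrix.one_apply, apply_ite (Ideal.Quotient.mk mb)]
        rw [this, Matrix.det_smul, Matrix.det_one, mul_one, Fintype.card_fin, map_pow]
      rw [show s ^ k * t ^ (k + 1) = D.det * t - (D.det - (s * t) ^ k) * t by ring]
      exact Submodule.sub_mem _ (Ideal.mem_sup_left hann)
        (Ideal.mem_sup_right (Ideal.mul_mem_right _ _ hdet))
    -- an annihilating element regular at `Q`
    let B' := Localization.AtPrime Q
    have hmQ : mb ≤ Q := fun x hx => by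
      show Ideal.Quotient.mk mb x ∈ P.asIdeal
      rw [Ideal.Quotient.eq_zero_iff_mem.mpr hx]
      exact zero_mem _
    haveI : IsLocalHom (algebraMap A B') := ⟨fun x hx => by
      by_contra hxu
      rw [IsScalarTower.algebraMap_apply A B B'] at hx
      exact (IsLocalization.AtPrime.isUnit_to_map_iff B' Q _).mp hx (hmQ (Ideal.mem_map_of_mem _ hxu))⟩
    haveI : Module.Flat B B' := IsLocalization.flat B' Q.primeCompl
    haveI : Module.Flat A B' := Module.Flat.trans A B B'
    have hmb' : mb.map (algebraMap B B') = EGA4.mB A B' := by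
      show ((maximalIdeal A).map (algebraMap A B)).map _ = _
      rw [Ideal.map_map, ← IsScalarTower.algebraMap_eq]
    let e : LocalizedModule Q.primeCompl Φ ≃ₗ[B'] EGA4.FibMod A B' B' :=
      ((LocalizedModule.equivTensorProduct Q.primeCompl Φ).trans
        (Algebra.TensorProduct.quotIdealMapEquivTensorQuot B' mb).symm.toLinearEquiv).trans
          (Submodule.quotEquivOfEq _ _ (by rw [hmb', Ideal.smul_eq_mul, Ideal.mul_top]))
    have h1 : 1 ≤ LocCoh.idealDepth (J.map (algebraMap B B')) (EGA4.FibMod A B' B') := by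
      rw [← Depth.idealDepth_congr e]
      exact (one_le_two.trans hΦ).trans (Depth.idealDepth_le_idealDepth_localizedModule Q.primeCompl)
    obtain ⟨y, hyJ, hy⟩ := Depth.exists_isSMulRegular_of_one_le_idealDepth h1
    have hrad : J.map (algebraMap B B') ≤ ((Module.annihilator B K ⊔ mb).map (algebraMap B B')).radical := by
      refine Ideal.map_le_iff_le_comap.mpr fun t ht => ?_
      obtain ⟨s, hs, k, hk⟩ := hpow _ (Ideal.pow_mem_pow ht (N + 1))
      refine ⟨(N + 1) * (k + 1), ?_⟩
      obtain ⟨w, hw⟩ := (IsLocalization.map_units B' (⟨s, hs⟩ : Q.primeCompl)).exists_left_inv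
      have := Ideal.mem_map_of_mem (algebraMap B B') hk
      rw [map_mul, map_pow, map_pow, map_pow] at this
      rw [pow_mul, show (algebraMap B B' t ^ (N + 1)) ^ (k + 1) =
        w ^ k * (algebraMap B B' s ^ k * (algebraMap B B' t ^ (N + 1)) ^ (k + 1)) by
          rw [← mul_assoc, ← mul_pow, hw, one_pow, one_mul]]
      exact Ideal.mul_mem_left _ _ this
    obtain ⟨e', he'⟩ := hrad hyJ
    rw [Ideal.map_sup, Submodule.mem_sup] at he'
    obtain ⟨u, hu, v, hv, huv⟩ := he'
    obtain ⟨⟨⟨c, hc⟩, w⟩, hcw⟩ := (IsLocalization.mem_map_algebraMap_iff Q.primeCompl B').mp hu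
    have hcreg : IsSMulRegular B' (algebraMap B B' c) := by
      refine isSMulRegular_of_fib (A := A) (M := B') fun p q hpq => ?_
      refine (hy.pow e') ?_
      have hv0 : ∀ p : EGA4.FibMod A B' B', v • p = 0 := fun p => by
        obtain ⟨p, rfl⟩ := Submodule.Quotient.mk_surjective _ p
        rw [← Submodule.Quotient.mk_smul, Submodule.Quotient.mk_eq_zero]
        exact Submodule.smul_mem_smul (hmb' ▸ hv) trivial
      obtain ⟨w', hw'⟩ := (IsLocalization.map_units B' w).exists_left_inv
      show y ^ e' • p = y ^ e' • q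
      rw [← huv, add_smul, add_smul, hv0, hv0, add_zero, add_zero,
        show u = w' * algebraMap B B' c by rw [← hcw, mul_comm u, ← mul_assoc, hw', one_mul],
        mul_smul, mul_smul]
      exact congrArg (w' • ·) hpq
    refine hsub (LocalizedModule.subsingleton_iff.mpr fun m => ?_)
    obtain ⟨x, rfl⟩ := Submodule.Quotient.mk_surjective _ m
    have hker : ∀ i, ∃ z ∉ Q, z * ι x i = 0 := fun i => by
      have h0 : algebraMap B B' (ι x i) = 0 := hcreg (by
        show algebraMap B B' c * _ = algebraMap B B' c * 0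
        rw [mul_zero, ← map_mul, ← smul_eq_mul, ← Pi.smul_apply, ← map_smul, Module.mem_annihilator.mp hc x,
          map_zero, Pi.zero_apply, map_zero])
      obtain ⟨z, hz⟩ := (IsLocalization.map_eq_zero_iff Q.primeCompl B' _).mp h0
      exact ⟨z, z.2, hz⟩
    choose z hz hzx using hker
    refine ⟨algebraMap B Φ (∏ i, z i), fun h => by
      obtain ⟨i, -, hi⟩ := (inferInstance : Q.IsPrime).prod_mem_iff.mp (show (∏ i, z i) ∈ Q from h)
      exact hz i hi, ?_⟩
    rw [algebraMap_smul, ← Submodule.Quotient.mk_smul]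
    rw [show (∏ i, z i) • x = 0 from hι (funext fun i => by
      rw [map_smul, map_zero, Pi.smul_apply, smul_eq_mul, Pi.zero_apply,
        ← Finset.prod_erase_mul Finset.univ z (Finset.mem_univ i), mul_assoc, hzx, mul_zero])]
    rfl

end Groth.Agent.S2Crit6
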